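/-! Minimal coset representatives along the chain of parabolic subgroups of W(G2) (generated). -/

set_option autoImplicit false
set_option maxRecDepth 100000

namespace Cfsg.Agent.Lib.ChevStructure.Order.DataG2

/-- representatives, level by level -/
def reps : List (List (List Nat)) := [
  [[], [0]],
  [[], [1], [0,1], [1,0,1], [0,1,0,1], [1,0,1,0,1]]]

/-- closure witnesses of level 0 -/
def wit0 : List (List (Nat × List Nat)) := [
  [(1,[])],
  [(0,[])]]

/-- closure witnesses of level 1 -/
def wit1 : List (List (Nat × List Nat)) := [
  [(0,[0]), (1,[])],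
  [(2,[]), (0,[])],
  [(1,[]), (3,[])],
  [(4,[]), (2,[])],
  [(3,[]), (5,[])],
  [(5,[0]), (4,[])]]

/-- closure witnesses -/
def wit : List (List (List (Nat × List Nat))) := [wit0, wit1]

end Cfsg.Agent.Lib.ChevStructure.Order.DataG2
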