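/-! Smith normal forms of the Cartan matrices (generated). -/

set_option autoImplicit false

namespace Cfsg.Agent.Lib.ChevStructure.Order.DataTorus

/-- U for G2 -/
def UG2 : List (List Int) := [[-1, 0], [2, 1]]

/-- U' for G2 -/
def U'G2 : List (List Int) := [[-1, 0], [2, 1]]

/-- V for G2 -/
def VG2 : List (List Int) := [[0, 1], [1, 2]]

/-- V' for G2 -/
def V'G2 : List (List Int) := [[-2, 1], [1, 0]]

/-- invariant factors for G2 -/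
def dG2 : List Nat := [1, 1]

/-- U for F4 -/
def UF4 : List (List Int) := [[-1, 0, 0, 0], [-2, -1, 0, 0], [-2, -2, -1, 0], [2, 3, 2, 1]]

/-- U' for F4 -/
def U'F4 : List (List Int) := [[-1, 0, 0, 0], [2, -1, 0, 0], [-2, 2, -1, 0], [0, -1, 2, 1]]

/-- V for F4 -/
def VF4 : List (List Int) := [[0, 0, 0, 1], [1, 0, 0, 2], [0, 1, 0, 3], [0, 0, 1, 2]]

/-- V' for F4 -/
def V'F4 : List (List Int) := [[-2, 1, 0, 0], [-3, 0, 1, 0], [-2, 0, 0, 1], [1, 0, 0, 0]]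

/-- invariant factors for F4 -/
def dF4 : List Nat := [1, 1, 1, 1]

/-- U for E8 -/
def UE8 : List (List Int) := [[-1, 0, 0, 0, 0, 0, 0, 0], [0, -1, 0, 0, 0, 0, 0, 0], [1, -2, 0, -1, 0, 0, 0, 0], [2, -3, 0, -2, -1, 0, 0, 0], [3, -4, 0, -3, -2, -1, 0, 0], [4, -5, 0, -4, -3, -2, -1, 0], [-2, 1, -1, 0, 0, 0, 0, 0], [-3, -2, -4, -5, -4, -3, -2, -1]]

/-- U' for E8 -/
def U'E8 : List (List Int) := [[-1, 0, 0, 0, 0, 0, 0, 0], [0, -1, 0, 0, 0, 0, 0, 0], [2, -1, 0, 0, 0, 0, -1, 0], [-1, 2, -1, 0, 0, 0, 0, 0], [0, -1, 2, -1, 0, 0, 0, 0], [0, 0, -1, 2, -1, 0, 0, 0], [0, 0, 0, -1, 2, -1, 0, 0], [0, 0, 0, 0, -1, 2, 4, -1]]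

/-- V for E8 -/
def VE8 : List (List Int) := [[0, 0, 0, 0, 0, 0, 1, -2], [0, 0, 0, 0, 0, 0, 2, -3], [1, 0, 0, 0, 0, 0, 2, -4], [0, 1, 0, 0, 0, 0, 4, -6], [0, 0, 1, 0, 0, 0, 4, -5], [0, 0, 0, 1, 0, 0, 4, -4], [0, 0, 0, 0, 1, 0, 4, -3], [0, 0, 0, 0, 0, 1, 4, -2]]

/-- V' for E8 -/
def V'E8 : List (List Int) := [[-2, 0, 1, 0, 0, 0, 0, 0], [0, -2, 0, 1, 0, 0, 0, 0], [2, -3, 0, 0, 1, 0, 0, 0], [4, -4, 0, 0, 0, 1, 0, 0], [6, -5, 0, 0, 0, 0, 1, 0], [8, -6, 0, 0, 0, 0, 0, 1], [-3, 2, 0, 0, 0, 0, 0, 0], [-2, 1, 0, 0, 0, 0, 0, 0]]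

/-- invariant factors for E8 -/
def dE8 : List Nat := [1, 1, 1, 1, 1, 1, 1, 1]

/-- U for E6 -/
def UE6 : List (List Int) := [[-1, 0, 0, 0, 0, 0], [0, -1, 0, 0, 0, 0], [1, -2, 0, -1, 0, 0], [2, -3, 0, -2, -1, 0], [-2, 1, -1, 0, 0, 0], [-5, 0, -4, -3, -2, -1]]

/-- U' for E6 -/
def U'E6 : List (List Int) := [[-1, 0, 0, 0, 0, 0], [0, -1, 0, 0, 0, 0], [2, -1, 0, 0, -1, 0], [-1, 2, -1, 0, 0, 0], [0, -1, 2, -1, 0, 0], [0, 0, -1, 2, 4, -1]]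

/-- V for E6 -/
def VE6 : List (List Int) := [[0, 0, 0, 0, 1, -2], [0, 0, 0, 0, 2, -3], [1, 0, 0, 0, 2, -4], [0, 1, 0, 0, 4, -6], [0, 0, 1, 0, 4, -5], [0, 0, 0, 1, 4, -4]]

/-- V' for E6 -/
def V'E6 : List (List Int) := [[-2, 0, 1, 0, 0, 0], [0, -2, 0, 1, 0, 0], [2, -3, 0, 0, 1, 0], [4, -4, 0, 0, 0, 1], [-3, 2, 0, 0, 0, 0], [-2, 1, 0, 0, 0, 0]]

/-- invariant factors for E6 -/
def dE6 : List Nat := [1, 1, 1, 1, 1, 3]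

/-- U for E7 -/
def UE7 : List (List Int) := [[-1, 0, 0, 0, 0, 0, 0], [0, -1, 0, 0, 0, 0, 0], [1, -2, 0, -1, 0, 0, 0], [2, -3, 0, -2, -1, 0, 0], [3, -4, 0, -3, -2, -1, 0], [-2, 1, -1, 0, 0, 0, 0], [-4, -1, -4, -4, -3, -2, -1]]

/-- U' for E7 -/
def U'E7 : List (List Int) := [[-1, 0, 0, 0, 0, 0, 0], [0, -1, 0, 0, 0, 0, 0], [2, -1, 0, 0, 0, -1, 0], [-1, 2, -1, 0, 0, 0, 0], [0, -1, 2, -1, 0, 0, 0], [0, 0, -1, 2, -1, 0, 0], [0, 0, 0, -1, 2, 4, -1]]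

/-- V for E7 -/
def VE7 : List (List Int) := [[0, 0, 0, 0, 0, 1, -2], [0, 0, 0, 0, 0, 2, -3], [1, 0, 0, 0, 0, 2, -4], [0, 1, 0, 0, 0, 4, -6], [0, 0, 1, 0, 0, 4, -5], [0, 0, 0, 1, 0, 4, -4], [0, 0, 0, 0, 1, 4, -3]]

/-- V' for E7 -/
def V'E7 : List (List Int) := [[-2, 0, 1, 0, 0, 0, 0], [0, -2, 0, 1, 0, 0, 0], [2, -3, 0, 0, 1, 0, 0], [4, -4, 0, 0, 0, 1, 0], [6, -5, 0, 0, 0, 0, 1], [-3, 2, 0, 0, 0, 0, 0], [-2, 1, 0, 0, 0, 0, 0]]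

/-- invariant factors for E7 -/
def dE7 : List Nat := [1, 1, 1, 1, 1, 1, 2]

/-- U for B2 -/
def UB2 : List (List Int) := [[-1, 0], [2, 1]]

/-- U' for B2 -/
def U'B2 : List (List Int) := [[-1, 0], [2, 1]]

/-- V for B2 -/
def VB2 : List (List Int) := [[0, 1], [1, 2]]

/-- V' for B2 -/
def V'B2 : List (List Int) := [[-2, 1], [1, 0]]

/-- invariant factors for B2 -/
def dB2 : List Nat := [1, 2]

/-- U for D4 -/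
def UD4 : List (List Int) := [[-1, 0, 0, 0], [-2, -1, 0, 0], [-3, -2, -1, 0], [2, 2, 1, 1]]

/-- U' for D4 -/
def U'D4 : List (List Int) := [[-1, 0, 0, 0], [2, -1, 0, 0], [-1, 2, -1, 0], [-1, 0, 1, 1]]

/-- V for D4 -/
def VD4 : List (List Int) := [[0, 0, 0, 1], [1, 0, 0, 2], [0, 1, -1, 1], [0, 0, 1, 2]]

/-- V' for D4 -/
def V'D4 : List (List Int) := [[-2, 1, 0, 0], [-3, 0, 1, 1], [-2, 0, 0, 1], [1, 0, 0, 0]]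

/-- invariant factors for D4 -/
def dD4 : List Nat := [1, 1, 2, 2]

end Cfsg.Agent.Lib.ChevStructure.Order.DataTorus
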