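/-! Minimal coset representatives along the chain of parabolic subgroups of W(D4) (generated). -/

set_option autoImplicit false
set_option maxRecDepth 100000

namespace Cfsg.Agent.Lib.ChevStructure.Order.DataD4

/-- representatives, level by level -/
def reps : List (List (List Nat)) := [
  [[], [0]],
  [[], [1], [0,1]],
  [[], [2], [1,2], [0,1,2]],
  [[], [3], [1,3], [0,1,3], [2,1,3], [2,0,1,3], [1,2,0,1,3], [3,1,2,0,1,3]]]

/-- closure witnesses of level 0 -/
def wit0 : List (List (Nat × List Nat)) := [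
  [(1,[])],
  [(0,[])]]

/-- closure witnesses of level 1 -/
def wit1 : List (List (Nat × List Nat)) := [
  [(0,[0]), (1,[])],
  [(2,[]), (0,[])],
  [(1,[]), (2,[0])]]

/-- closure witnesses of level 2 -/
def wit2 : List (List (Nat × List Nat)) := [
  [(0,[0]), (0,[1]), (1,[])],
  [(1,[0]), (2,[]), (0,[])],
  [(3,[]), (1,[]), (2,[1])],
  [(2,[]), (3,[0]), (3,[1])]]

/-- closure witnesses of level 3 -/
def wit3 : List (List (Nat × List Nat)) := [
  [(0,[0]), (0,[1]), (0,[2]), (1,[])],
  [(1,[0]), (2,[]), (1,[2]), (0,[])],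
  [(3,[]), (1,[]), (4,[]), (2,[1])],
  [(2,[]), (3,[0]), (5,[]), (3,[1])],
  [(5,[]), (4,[2]), (2,[]), (4,[1])],
  [(4,[]), (6,[]), (3,[]), (5,[1])],
  [(6,[2]), (5,[]), (6,[0]), (7,[])],
  [(7,[2]), (7,[1]), (7,[0]), (6,[])]]

/-- closure witnesses -/
def wit : List (List (List (Nat × List Nat))) := [wit0, wit1, wit2, wit3]

end Cfsg.Agent.Lib.ChevStructure.Order.DataD4
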