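/-! Minimal coset representatives along the chain of parabolic subgroups of W(E6) (generated). -/

set_option autoImplicit false
set_option maxRecDepth 100000

namespace Cfsg.Agent.Lib.ChevStructure.Order.DataE6

/-- representatives, level by level -/
def reps : List (List (List Nat)) := [
  [[], [0]],
  [[], [1]],
  [[], [2], [0,2]],
  [[], [3], [1,3], [2,3], [2,1,3], [0,2,3], [0,2,1,3], [3,2,1,3], [3,0,2,1,3], [2,3,0,2,1,3]],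
  [[], [4], [3,4], [1,3,4], [2,3,4], [2,1,3,4], [0,2,3,4], [0,2,1,3,4], [3,2,1,3,4], [3,0,2,1,3,4], [4,3,2,1,3,4], [2,3,0,2,1,3,4], [4,3,0,2,1,3,4], [4,2,3,0,2,1,3,4], [3,4,2,3,0,2,1,3,4], [1,3,4,2,3,0,2,1,3,4]],
  [[], [5], [4,5], [3,4,5], [1,3,4,5], [2,3,4,5], [2,1,3,4,5], [0,2,3,4,5], [0,2,1,3,4,5], [3,2,1,3,4,5], [3,0,2,1,3,4,5], [4,3,2,1,3,4,5], [2,3,0,2,1,3,4,5], [4,3,0,2,1,3,4,5], [5,4,3,2,1,3,4,5], [4,2,3,0,2,1,3,4,5], [5,4,3,0,2,1,3,4,5], [3,4,2,3,0,2,1,3,4,5], [5,4,2,3,0,2,1,3,4,5], [1,3,4,2,3,0,2,1,3,4,5], [5,3,4,2,3,0,2,1,3,4,5], [5,1,3,4,2,3,0,2,1,3,4,5], [4,5,3,4,2,3,0,2,1,3,4,5], [4,5,1,3,4,2,3,0,2,1,3,4,5], [3,4,5,1,3,4,2,3,0,2,1,3,4,5], [2,3,4,5,1,3,4,2,3,0,2,1,3,4,5], [0,2,3,4,5,1,3,4,2,3,0,2,1,3,4,5]]]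

/-- closure witnesses of level 0 -/
def wit0 : List (List (Nat × List Nat)) := [
  [(1,[])],
  [(0,[])]]

/-- closure witnesses of level 1 -/
def wit1 : List (List (Nat × List Nat)) := [
  [(0,[0]), (1,[])],
  [(1,[0]), (0,[])]]

/-- closure witnesses of level 2 -/
def wit2 : List (List (Nat × List Nat)) := [
  [(0,[0]), (0,[1]), (1,[])],
  [(2,[]), (1,[1]), (0,[])],
  [(1,[]), (2,[1]), (2,[0])]]

/-- closure witnesses of level 3 -/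
def wit3 : List (List (Nat × List Nat)) := [
  [(0,[0]), (0,[1]), (0,[2]), (1,[])],
  [(1,[0]), (2,[]), (3,[]), (0,[])],
  [(2,[0]), (1,[]), (4,[]), (2,[1])],
  [(5,[]), (4,[]), (1,[]), (3,[2])],
  [(6,[]), (3,[]), (2,[]), (7,[])],
  [(3,[]), (6,[]), (5,[0]), (5,[2])],
  [(4,[]), (5,[]), (6,[0]), (8,[])],
  [(8,[]), (7,[2]), (7,[1]), (4,[])],
  [(7,[]), (8,[2]), (9,[]), (6,[])],
  [(9,[1]), (9,[2]), (8,[]), (9,[0])]]

/-- closure witnesses of level 4 -/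
def wit4 : List (List (Nat × List Nat)) := [
  [(0,[0]), (0,[1]), (0,[2]), (0,[3]), (1,[])],
  [(1,[0]), (1,[1]), (1,[2]), (2,[]), (0,[])],
  [(2,[0]), (3,[]), (4,[]), (1,[]), (2,[3])],
  [(3,[0]), (2,[]), (5,[]), (3,[1]), (3,[3])],
  [(6,[]), (5,[]), (2,[]), (4,[2]), (4,[3])],
  [(7,[]), (4,[]), (3,[]), (8,[]), (5,[3])],
  [(4,[]), (7,[]), (6,[0]), (6,[2]), (6,[3])],
  [(5,[]), (6,[]), (7,[0]), (9,[]), (7,[3])],
  [(9,[]), (8,[2]), (8,[1]), (5,[]), (10,[])],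
  [(8,[]), (9,[2]), (11,[]), (7,[]), (12,[])],
  [(12,[]), (10,[2]), (10,[1]), (10,[3]), (8,[])],
  [(11,[1]), (11,[2]), (9,[]), (11,[0]), (13,[])],
  [(10,[]), (12,[2]), (13,[]), (12,[3]), (9,[])],
  [(13,[1]), (13,[2]), (12,[]), (14,[]), (11,[])],
  [(14,[1]), (15,[]), (14,[3]), (13,[]), (14,[0])],
  [(15,[1]), (14,[]), (15,[3]), (15,[2]), (15,[0])]]

/-- closure witnesses of level 5 -/
def wit5 : List (List (Nat × List Nat)) := [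
  [(0,[0]), (0,[1]), (0,[2]), (0,[3]), (0,[4]), (1,[])],
  [(1,[0]), (1,[1]), (1,[2]), (1,[3]), (2,[]), (0,[])],
  [(2,[0]), (2,[1]), (2,[2]), (3,[]), (1,[]), (2,[4])],
  [(3,[0]), (4,[]), (5,[]), (2,[]), (3,[3]), (3,[4])],
  [(4,[0]), (3,[]), (6,[]), (4,[1]), (4,[3]), (4,[4])],
  [(7,[]), (6,[]), (3,[]), (5,[2]), (5,[3]), (5,[4])],
  [(8,[]), (5,[]), (4,[]), (9,[]), (6,[3]), (6,[4])],
  [(5,[]), (8,[]), (7,[0]), (7,[2]), (7,[3]), (7,[4])],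
  [(6,[]), (7,[]), (8,[0]), (10,[]), (8,[3]), (8,[4])],
  [(10,[]), (9,[2]), (9,[1]), (6,[]), (11,[]), (9,[4])],
  [(9,[]), (10,[2]), (12,[]), (8,[]), (13,[]), (10,[4])],
  [(13,[]), (11,[2]), (11,[1]), (11,[3]), (9,[]), (14,[])],
  [(12,[1]), (12,[2]), (10,[]), (12,[0]), (15,[]), (12,[4])],
  [(11,[]), (13,[2]), (15,[]), (13,[3]), (10,[]), (16,[])],
  [(16,[]), (14,[2]), (14,[1]), (14,[3]), (14,[4]), (11,[])],
  [(15,[1]), (15,[2]), (13,[]), (17,[]), (12,[]), (18,[])],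
  [(14,[]), (16,[2]), (18,[]), (16,[3]), (16,[4]), (13,[])],
  [(17,[1]), (19,[]), (17,[3]), (15,[]), (17,[0]), (20,[])],
  [(18,[1]), (18,[2]), (16,[]), (20,[]), (18,[4]), (15,[])],
  [(19,[1]), (17,[]), (19,[3]), (19,[2]), (19,[0]), (21,[])],
  [(20,[1]), (21,[]), (20,[3]), (18,[]), (22,[]), (17,[])],
  [(21,[1]), (20,[]), (21,[3]), (21,[2]), (23,[]), (19,[])],
  [(22,[1]), (23,[]), (22,[3]), (22,[4]), (20,[]), (22,[0])],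
  [(23,[1]), (22,[]), (23,[3]), (24,[]), (21,[]), (23,[0])],
  [(24,[1]), (24,[4]), (25,[]), (23,[]), (24,[2]), (24,[0])],
  [(26,[]), (25,[4]), (24,[]), (25,[3]), (25,[2]), (25,[0])],
  [(25,[]), (26,[4]), (26,[1]), (26,[3]), (26,[2]), (26,[0])]]

/-- closure witnesses -/
def wit : List (List (List (Nat × List Nat))) := [wit0, wit1, wit2, wit3, wit4, wit5]

end Cfsg.Agent.Lib.ChevStructure.Order.DataE6
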