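import Cfsg.Agent.Lib.ChevStructure.Order.Formula
import Cfsg.Agent.Lib.ChevStructure.Order.DataE6
import Cfsg.Agent.Lib.ChevStructure.Order.DataTorus
import Cfsg.Agent.Lib.ChevStructure.CommGL

/-! The order of E6(q). -/

set_option autoImplicit false
set_option maxRecDepth 100000

namespace Cfsg.Agent.Lib.ChevStructure.Order.CertE6

open Cfsg.Lie

theorem levels : allLt Data.E6.fast.l (fun k => Data.E6.fast.levelOK k (DataE6.reps.getD k [])
    (DataE6.wit.getD k [])) = true := by decide +kernel

theorem ident : identOK Data.E6.fast.l DataE6.reps [2, 5, 6, 8, 9, 12] = true := by decide +kernel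

theorem smith : Data.E6.fast.smithOK DataTorus.UE6 DataTorus.U'E6 DataTorus.VE6 DataTorus.V'E6
    DataTorus.dE6 = true := by decide +kernel

theorem card_diagonal {K : Type*} [Field K] [Fintype K] {q : ℕ} (hq : Fintype.card K = q) :
    (∏ i : Fin chevE6.rank, Nat.gcd (q - 1) (DataTorus.dE6.getD i.val 0)) *
      Nat.card (chevE6.diagonalSubgroup K) = (q - 1) ^ chevE6.rank :=
  Cert.E6.certified.card_diagonal hq smith

theorem card_group {K : Type*} [Field K] [Fintype K] {q : ℕ} (hq : Fintype.card K = q) :
    (∏ i : Fin chevE6.rank, Nat.gcd (q - 1) (DataTorus.dE6.getD i.val 0)) * Nat.card (chevE6.group K) =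
      q ^ (chevE6.nroots / 2) * (([2, 5, 6, 8, 9, 12] : List ℕ).map fun d => q ^ d - 1).prod :=
  Cert.E6.certified.card_group (Cert.E6.core.commOK_mild mildE6) levels ident smith hq

end Cfsg.Agent.Lib.ChevStructure.Order.CertE6
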