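/-! Minimal coset representatives along the chain of parabolic subgroups of W(E8) (generated). -/

set_option autoImplicit false
set_option maxRecDepth 100000

namespace Cfsg.Agent.Lib.ChevStructure.Order.DataE8

/-- representatives, level by level -/
def reps : List (List (List Nat)) := [
  [[], [0]],
  [[], [1]],
  [[], [2], [0,2]],
  [[], [3], [1,3], [2,3], [2,1,3], [0,2,3], [0,2,1,3], [3,2,1,3], [3,0,2,1,3], [2,3,0,2,1,3]],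
  [[], [4], [3,4], [1,3,4], [2,3,4], [2,1,3,4], [0,2,3,4], [0,2,1,3,4], [3,2,1,3,4], [3,0,2,1,3,4], [4,3,2,1,3,4], [2,3,0,2,1,3,4], [4,3,0,2,1,3,4], [4,2,3,0,2,1,3,4], [3,4,2,3,0,2,1,3,4], [1,3,4,2,3,0,2,1,3,4]],
  [[], [5], [4,5], [3,4,5], [1,3,4,5], [2,3,4,5], [2,1,3,4,5], [0,2,3,4,5], [0,2,1,3,4,5], [3,2,1,3,4,5], [3,0,2,1,3,4,5], [4,3,2,1,3,4,5], [2,3,0,2,1,3,4,5], [4,3,0,2,1,3,4,5], [5,4,3,2,1,3,4,5], [4,2,3,0,2,1,3,4,5], [5,4,3,0,2,1,3,4,5], [3,4,2,3,0,2,1,3,4,5], [5,4,2,3,0,2,1,3,4,5], [1,3,4,2,3,0,2,1,3,4,5], [5,3,4,2,3,0,2,1,3,4,5], [5,1,3,4,2,3,0,2,1,3,4,5], [4,5,3,4,2,3,0,2,1,3,4,5], [4,5,1,3,4,2,3,0,2,1,3,4,5], [3,4,5,1,3,4,2,3,0,2,1,3,4,5], [2,3,4,5,1,3,4,2,3,0,2,1,3,4,5], [0,2,3,4,5,1,3,4,2,3,0,2,1,3,4,5]],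
  [[], [6], [5,6], [4,5,6], [3,4,5,6], [1,3,4,5,6], [2,3,4,5,6], [2,1,3,4,5,6], [0,2,3,4,5,6], [0,2,1,3,4,5,6], [3,2,1,3,4,5,6], [3,0,2,1,3,4,5,6], [4,3,2,1,3,4,5,6], [2,3,0,2,1,3,4,5,6], [4,3,0,2,1,3,4,5,6], [5,4,3,2,1,3,4,5,6], [4,2,3,0,2,1,3,4,5,6], [5,4,3,0,2,1,3,4,5,6], [6,5,4,3,2,1,3,4,5,6], [3,4,2,3,0,2,1,3,4,5,6], [5,4,2,3,0,2,1,3,4,5,6], [6,5,4,3,0,2,1,3,4,5,6], [1,3,4,2,3,0,2,1,3,4,5,6], [5,3,4,2,3,0,2,1,3,4,5,6], [6,5,4,2,3,0,2,1,3,4,5,6], [5,1,3,4,2,3,0,2,1,3,4,5,6], [4,5,3,4,2,3,0,2,1,3,4,5,6], [6,5,3,4,2,3,0,2,1,3,4,5,6], [4,5,1,3,4,2,3,0,2,1,3,4,5,6], [6,5,1,3,4,2,3,0,2,1,3,4,5,6], [6,4,5,3,4,2,3,0,2,1,3,4,5,6], [3,4,5,1,3,4,2,3,0,2,1,3,4,5,6], [6,4,5,1,3,4,2,3,0,2,1,3,4,5,6], [5,6,4,5,3,4,2,3,0,2,1,3,4,5,6], [2,3,4,5,1,3,4,2,3,0,2,1,3,4,5,6], [6,3,4,5,1,3,4,2,3,0,2,1,3,4,5,6],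 [5,6,4,5,1,3,4,2,3,0,2,1,3,4,5,6], [0,2,3,4,5,1,3,4,2,3,0,2,1,3,4,5,6], [6,2,3,4,5,1,3,4,2,3,0,2,1,3,4,5,6], [5,6,3,4,5,1,3,4,2,3,0,2,1,3,4,5,6], [6,0,2,3,4,5,1,3,4,2,3,0,2,1,3,4,5,6], [5,6,2,3,4,5,1,3,4,2,3,0,2,1,3,4,5,6], [4,5,6,3,4,5,1,3,4,2,3,0,2,1,3,4,5,6], [5,6,0,2,3,4,5,1,3,4,2,3,0,2,1,3,4,5,6], [4,5,6,2,3,4,5,1,3,4,2,3,0,2,1,3,4,5,6], [4,5,6,0,2,3,4,5,1,3,4,2,3,0,2,1,3,4,5,6], [3,4,5,6,2,3,4,5,1,3,4,2,3,0,2,1,3,4,5,6], [3,4,5,6,0,2,3,4,5,1,3,4,2,3,0,2,1,3,4,5,6], [1,3,4,5,6,2,3,4,5,1,3,4,2,3,0,2,1,3,4,5,6], [1,3,4,5,6,0,2,3,4,5,1,3,4,2,3,0,2,1,3,4,5,6], [2,3,4,5,6,0,2,3,4,5,1,3,4,2,3,0,2,1,3,4,5,6], [2,1,3,4,5,6,0,2,3,4,5,1,3,4,2,3,0,2,1,3,4,5,6], [3,2,1,3,4,5,6,0,2,3,4,5,1,3,4,2,3,0,2,1,3,4,5,6], [4,3,2,1,3,4,5,6,0,2,3,4,5,1,3,4,2,3,0,2,1,3,4,5,6], [5,4,3,2,1,3,4,5,6,0,2,3,4,5,1,3,4,2,3,0,2,1,3,4,5,6],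 [6,5,4,3,2,1,3,4,5,6,0,2,3,4,5,1,3,4,2,3,0,2,1,3,4,5,6]],
  [[], [7], [6,7], [5,6,7], [4,5,6,7], [3,4,5,6,7], [1,3,4,5,6,7], [2,3,4,5,6,7], [2,1,3,4,5,6,7], [0,2,3,4,5,6,7], [0,2,1,3,4,5,6,7], [3,2,1,3,4,5,6,7], [3,0,2,1,3,4,5,6,7], [4,3,2,1,3,4,5,6,7], [2,3,0,2,1,3,4,5,6,7], [4,3,0,2,1,3,4,5,6,7], [5,4,3,2,1,3,4,5,6,7], [4,2,3,0,2,1,3,4,5,6,7], [5,4,3,0,2,1,3,4,5,6,7], [6,5,4,3,2,1,3,4,5,6,7], [3,4,2,3,0,2,1,3,4,5,6,7], [5,4,2,3,0,2,1,3,4,5,6,7], [6,5,4,3,0,2,1,3,4,5,6,7], [7,6,5,4,3,2,1,3,4,5,6,7], [1,3,4,2,3,0,2,1,3,4,5,6,7], [5,3,4,2,3,0,2,1,3,4,5,6,7], [6,5,4,2,3,0,2,1,3,4,5,6,7], [7,6,5,4,3,0,2,1,3,4,5,6,7], [5,1,3,4,2,3,0,2,1,3,4,5,6,7], [4,5,3,4,2,3,0,2,1,3,4,5,6,7], [6,5,3,4,2,3,0,2,1,3,4,5,6,7], [7,6,5,4,2,3,0,2,1,3,4,5,6,7], [4,5,1,3,4,2,3,0,2,1,3,4,5,6,7],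 [6,5,1,3,4,2,3,0,2,1,3,4,5,6,7], [6,4,5,3,4,2,3,0,2,1,3,4,5,6,7], [7,6,5,3,4,2,3,0,2,1,3,4,5,6,7], [3,4,5,1,3,4,2,3,0,2,1,3,4,5,6,7], [6,4,5,1,3,4,2,3,0,2,1,3,4,5,6,7], [7,6,5,1,3,4,2,3,0,2,1,3,4,5,6,7], [5,6,4,5,3,4,2,3,0,2,1,3,4,5,6,7], [7,6,4,5,3,4,2,3,0,2,1,3,4,5,6,7], [2,3,4,5,1,3,4,2,3,0,2,1,3,4,5,6,7], [6,3,4,5,1,3,4,2,3,0,2,1,3,4,5,6,7], [5,6,4,5,1,3,4,2,3,0,2,1,3,4,5,6,7], [7,6,4,5,1,3,4,2,3,0,2,1,3,4,5,6,7], [7,5,6,4,5,3,4,2,3,0,2,1,3,4,5,6,7], [0,2,3,4,5,1,3,4,2,3,0,2,1,3,4,5,6,7], [6,2,3,4,5,1,3,4,2,3,0,2,1,3,4,5,6,7], [5,6,3,4,5,1,3,4,2,3,0,2,1,3,4,5,6,7], [7,6,3,4,5,1,3,4,2,3,0,2,1,3,4,5,6,7], [7,5,6,4,5,1,3,4,2,3,0,2,1,3,4,5,6,7], [6,7,5,6,4,5,3,4,2,3,0,2,1,3,4,5,6,7], [6,0,2,3,4,5,1,3,4,2,3,0,2,1,3,4,5,6,7], [5,6,2,3,4,5,1,3,4,2,3,0,2,1,3,4,5,6,7], [7,6,2,3,4,5,1,3,4,2,3,0,2,1,3,4,5,6,7],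 [4,5,6,3,4,5,1,3,4,2,3,0,2,1,3,4,5,6,7], [7,5,6,3,4,5,1,3,4,2,3,0,2,1,3,4,5,6,7], [6,7,5,6,4,5,1,3,4,2,3,0,2,1,3,4,5,6,7], [5,6,0,2,3,4,5,1,3,4,2,3,0,2,1,3,4,5,6,7], [7,6,0,2,3,4,5,1,3,4,2,3,0,2,1,3,4,5,6,7], [4,5,6,2,3,4,5,1,3,4,2,3,0,2,1,3,4,5,6,7], [7,5,6,2,3,4,5,1,3,4,2,3,0,2,1,3,4,5,6,7], [7,4,5,6,3,4,5,1,3,4,2,3,0,2,1,3,4,5,6,7], [6,7,5,6,3,4,5,1,3,4,2,3,0,2,1,3,4,5,6,7], [4,5,6,0,2,3,4,5,1,3,4,2,3,0,2,1,3,4,5,6,7], [7,5,6,0,2,3,4,5,1,3,4,2,3,0,2,1,3,4,5,6,7], [3,4,5,6,2,3,4,5,1,3,4,2,3,0,2,1,3,4,5,6,7], [7,4,5,6,2,3,4,5,1,3,4,2,3,0,2,1,3,4,5,6,7], [6,7,5,6,2,3,4,5,1,3,4,2,3,0,2,1,3,4,5,6,7], [6,7,4,5,6,3,4,5,1,3,4,2,3,0,2,1,3,4,5,6,7], [3,4,5,6,0,2,3,4,5,1,3,4,2,3,0,2,1,3,4,5,6,7], [7,4,5,6,0,2,3,4,5,1,3,4,2,3,0,2,1,3,4,5,6,7], [6,7,5,6,0,2,3,4,5,1,3,4,2,3,0,2,1,3,4,5,6,7],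 [1,3,4,5,6,2,3,4,5,1,3,4,2,3,0,2,1,3,4,5,6,7], [7,3,4,5,6,2,3,4,5,1,3,4,2,3,0,2,1,3,4,5,6,7], [6,7,4,5,6,2,3,4,5,1,3,4,2,3,0,2,1,3,4,5,6,7], [5,6,7,4,5,6,3,4,5,1,3,4,2,3,0,2,1,3,4,5,6,7], [1,3,4,5,6,0,2,3,4,5,1,3,4,2,3,0,2,1,3,4,5,6,7], [2,3,4,5,6,0,2,3,4,5,1,3,4,2,3,0,2,1,3,4,5,6,7], [7,3,4,5,6,0,2,3,4,5,1,3,4,2,3,0,2,1,3,4,5,6,7], [6,7,4,5,6,0,2,3,4,5,1,3,4,2,3,0,2,1,3,4,5,6,7], [7,1,3,4,5,6,2,3,4,5,1,3,4,2,3,0,2,1,3,4,5,6,7], [6,7,3,4,5,6,2,3,4,5,1,3,4,2,3,0,2,1,3,4,5,6,7], [5,6,7,4,5,6,2,3,4,5,1,3,4,2,3,0,2,1,3,4,5,6,7], [2,1,3,4,5,6,0,2,3,4,5,1,3,4,2,3,0,2,1,3,4,5,6,7], [7,1,3,4,5,6,0,2,3,4,5,1,3,4,2,3,0,2,1,3,4,5,6,7], [7,2,3,4,5,6,0,2,3,4,5,1,3,4,2,3,0,2,1,3,4,5,6,7], [6,7,3,4,5,6,0,2,3,4,5,1,3,4,2,3,0,2,1,3,4,5,6,7], [5,6,7,4,5,6,0,2,3,4,5,1,3,4,2,3,0,2,1,3,4,5,6,7],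 [6,7,1,3,4,5,6,2,3,4,5,1,3,4,2,3,0,2,1,3,4,5,6,7], [5,6,7,3,4,5,6,2,3,4,5,1,3,4,2,3,0,2,1,3,4,5,6,7], [3,2,1,3,4,5,6,0,2,3,4,5,1,3,4,2,3,0,2,1,3,4,5,6,7], [7,2,1,3,4,5,6,0,2,3,4,5,1,3,4,2,3,0,2,1,3,4,5,6,7], [6,7,1,3,4,5,6,0,2,3,4,5,1,3,4,2,3,0,2,1,3,4,5,6,7], [6,7,2,3,4,5,6,0,2,3,4,5,1,3,4,2,3,0,2,1,3,4,5,6,7], [5,6,7,3,4,5,6,0,2,3,4,5,1,3,4,2,3,0,2,1,3,4,5,6,7], [5,6,7,1,3,4,5,6,2,3,4,5,1,3,4,2,3,0,2,1,3,4,5,6,7], [4,5,6,7,3,4,5,6,2,3,4,5,1,3,4,2,3,0,2,1,3,4,5,6,7], [4,3,2,1,3,4,5,6,0,2,3,4,5,1,3,4,2,3,0,2,1,3,4,5,6,7], [7,3,2,1,3,4,5,6,0,2,3,4,5,1,3,4,2,3,0,2,1,3,4,5,6,7], [6,7,2,1,3,4,5,6,0,2,3,4,5,1,3,4,2,3,0,2,1,3,4,5,6,7], [5,6,7,1,3,4,5,6,0,2,3,4,5,1,3,4,2,3,0,2,1,3,4,5,6,7], [5,6,7,2,3,4,5,6,0,2,3,4,5,1,3,4,2,3,0,2,1,3,4,5,6,7], [4,5,6,7,3,4,5,6,0,2,3,4,5,1,3,4,2,3,0,2,1,3,4,5,6,7],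 [4,5,6,7,1,3,4,5,6,2,3,4,5,1,3,4,2,3,0,2,1,3,4,5,6,7], [5,4,3,2,1,3,4,5,6,0,2,3,4,5,1,3,4,2,3,0,2,1,3,4,5,6,7], [7,4,3,2,1,3,4,5,6,0,2,3,4,5,1,3,4,2,3,0,2,1,3,4,5,6,7], [6,7,3,2,1,3,4,5,6,0,2,3,4,5,1,3,4,2,3,0,2,1,3,4,5,6,7], [5,6,7,2,1,3,4,5,6,0,2,3,4,5,1,3,4,2,3,0,2,1,3,4,5,6,7], [4,5,6,7,1,3,4,5,6,0,2,3,4,5,1,3,4,2,3,0,2,1,3,4,5,6,7], [4,5,6,7,2,3,4,5,6,0,2,3,4,5,1,3,4,2,3,0,2,1,3,4,5,6,7], [3,4,5,6,7,1,3,4,5,6,2,3,4,5,1,3,4,2,3,0,2,1,3,4,5,6,7], [6,5,4,3,2,1,3,4,5,6,0,2,3,4,5,1,3,4,2,3,0,2,1,3,4,5,6,7], [7,5,4,3,2,1,3,4,5,6,0,2,3,4,5,1,3,4,2,3,0,2,1,3,4,5,6,7], [6,7,4,3,2,1,3,4,5,6,0,2,3,4,5,1,3,4,2,3,0,2,1,3,4,5,6,7], [5,6,7,3,2,1,3,4,5,6,0,2,3,4,5,1,3,4,2,3,0,2,1,3,4,5,6,7], [4,5,6,7,2,1,3,4,5,6,0,2,3,4,5,1,3,4,2,3,0,2,1,3,4,5,6,7], [3,4,5,6,7,1,3,4,5,6,0,2,3,4,5,1,3,4,2,3,0,2,1,3,4,5,6,7],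 [3,4,5,6,7,2,3,4,5,6,0,2,3,4,5,1,3,4,2,3,0,2,1,3,4,5,6,7], [2,3,4,5,6,7,1,3,4,5,6,2,3,4,5,1,3,4,2,3,0,2,1,3,4,5,6,7], [7,6,5,4,3,2,1,3,4,5,6,0,2,3,4,5,1,3,4,2,3,0,2,1,3,4,5,6,7], [6,7,5,4,3,2,1,3,4,5,6,0,2,3,4,5,1,3,4,2,3,0,2,1,3,4,5,6,7], [5,6,7,4,3,2,1,3,4,5,6,0,2,3,4,5,1,3,4,2,3,0,2,1,3,4,5,6,7], [4,5,6,7,3,2,1,3,4,5,6,0,2,3,4,5,1,3,4,2,3,0,2,1,3,4,5,6,7], [3,4,5,6,7,2,1,3,4,5,6,0,2,3,4,5,1,3,4,2,3,0,2,1,3,4,5,6,7], [2,3,4,5,6,7,1,3,4,5,6,0,2,3,4,5,1,3,4,2,3,0,2,1,3,4,5,6,7], [1,3,4,5,6,7,2,3,4,5,6,0,2,3,4,5,1,3,4,2,3,0,2,1,3,4,5,6,7], [0,2,3,4,5,6,7,1,3,4,5,6,2,3,4,5,1,3,4,2,3,0,2,1,3,4,5,6,7], [6,7,6,5,4,3,2,1,3,4,5,6,0,2,3,4,5,1,3,4,2,3,0,2,1,3,4,5,6,7], [5,6,7,5,4,3,2,1,3,4,5,6,0,2,3,4,5,1,3,4,2,3,0,2,1,3,4,5,6,7], [4,5,6,7,4,3,2,1,3,4,5,6,0,2,3,4,5,1,3,4,2,3,0,2,1,3,4,5,6,7],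 [3,4,5,6,7,3,2,1,3,4,5,6,0,2,3,4,5,1,3,4,2,3,0,2,1,3,4,5,6,7], [1,3,4,5,6,7,2,1,3,4,5,6,0,2,3,4,5,1,3,4,2,3,0,2,1,3,4,5,6,7], [2,3,4,5,6,7,2,1,3,4,5,6,0,2,3,4,5,1,3,4,2,3,0,2,1,3,4,5,6,7], [0,2,3,4,5,6,7,1,3,4,5,6,0,2,3,4,5,1,3,4,2,3,0,2,1,3,4,5,6,7], [5,6,7,6,5,4,3,2,1,3,4,5,6,0,2,3,4,5,1,3,4,2,3,0,2,1,3,4,5,6,7], [4,5,6,7,5,4,3,2,1,3,4,5,6,0,2,3,4,5,1,3,4,2,3,0,2,1,3,4,5,6,7], [3,4,5,6,7,4,3,2,1,3,4,5,6,0,2,3,4,5,1,3,4,2,3,0,2,1,3,4,5,6,7], [1,3,4,5,6,7,3,2,1,3,4,5,6,0,2,3,4,5,1,3,4,2,3,0,2,1,3,4,5,6,7], [2,3,4,5,6,7,3,2,1,3,4,5,6,0,2,3,4,5,1,3,4,2,3,0,2,1,3,4,5,6,7], [2,1,3,4,5,6,7,2,1,3,4,5,6,0,2,3,4,5,1,3,4,2,3,0,2,1,3,4,5,6,7], [0,2,3,4,5,6,7,2,1,3,4,5,6,0,2,3,4,5,1,3,4,2,3,0,2,1,3,4,5,6,7], [4,5,6,7,6,5,4,3,2,1,3,4,5,6,0,2,3,4,5,1,3,4,2,3,0,2,1,3,4,5,6,7], [3,4,5,6,7,5,4,3,2,1,3,4,5,6,0,2,3,4,5,1,3,4,2,3,0,2,1,3,4,5,6,7],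 [1,3,4,5,6,7,4,3,2,1,3,4,5,6,0,2,3,4,5,1,3,4,2,3,0,2,1,3,4,5,6,7], [2,3,4,5,6,7,4,3,2,1,3,4,5,6,0,2,3,4,5,1,3,4,2,3,0,2,1,3,4,5,6,7], [2,1,3,4,5,6,7,3,2,1,3,4,5,6,0,2,3,4,5,1,3,4,2,3,0,2,1,3,4,5,6,7], [0,2,3,4,5,6,7,3,2,1,3,4,5,6,0,2,3,4,5,1,3,4,2,3,0,2,1,3,4,5,6,7], [0,2,1,3,4,5,6,7,2,1,3,4,5,6,0,2,3,4,5,1,3,4,2,3,0,2,1,3,4,5,6,7], [3,4,5,6,7,6,5,4,3,2,1,3,4,5,6,0,2,3,4,5,1,3,4,2,3,0,2,1,3,4,5,6,7], [1,3,4,5,6,7,5,4,3,2,1,3,4,5,6,0,2,3,4,5,1,3,4,2,3,0,2,1,3,4,5,6,7], [2,3,4,5,6,7,5,4,3,2,1,3,4,5,6,0,2,3,4,5,1,3,4,2,3,0,2,1,3,4,5,6,7], [2,1,3,4,5,6,7,4,3,2,1,3,4,5,6,0,2,3,4,5,1,3,4,2,3,0,2,1,3,4,5,6,7], [0,2,3,4,5,6,7,4,3,2,1,3,4,5,6,0,2,3,4,5,1,3,4,2,3,0,2,1,3,4,5,6,7], [0,2,1,3,4,5,6,7,3,2,1,3,4,5,6,0,2,3,4,5,1,3,4,2,3,0,2,1,3,4,5,6,7], [3,2,1,3,4,5,6,7,3,2,1,3,4,5,6,0,2,3,4,5,1,3,4,2,3,0,2,1,3,4,5,6,7],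 [1,3,4,5,6,7,6,5,4,3,2,1,3,4,5,6,0,2,3,4,5,1,3,4,2,3,0,2,1,3,4,5,6,7], [2,3,4,5,6,7,6,5,4,3,2,1,3,4,5,6,0,2,3,4,5,1,3,4,2,3,0,2,1,3,4,5,6,7], [2,1,3,4,5,6,7,5,4,3,2,1,3,4,5,6,0,2,3,4,5,1,3,4,2,3,0,2,1,3,4,5,6,7], [0,2,3,4,5,6,7,5,4,3,2,1,3,4,5,6,0,2,3,4,5,1,3,4,2,3,0,2,1,3,4,5,6,7], [0,2,1,3,4,5,6,7,4,3,2,1,3,4,5,6,0,2,3,4,5,1,3,4,2,3,0,2,1,3,4,5,6,7], [3,2,1,3,4,5,6,7,4,3,2,1,3,4,5,6,0,2,3,4,5,1,3,4,2,3,0,2,1,3,4,5,6,7], [3,0,2,1,3,4,5,6,7,3,2,1,3,4,5,6,0,2,3,4,5,1,3,4,2,3,0,2,1,3,4,5,6,7], [2,1,3,4,5,6,7,6,5,4,3,2,1,3,4,5,6,0,2,3,4,5,1,3,4,2,3,0,2,1,3,4,5,6,7], [0,2,3,4,5,6,7,6,5,4,3,2,1,3,4,5,6,0,2,3,4,5,1,3,4,2,3,0,2,1,3,4,5,6,7], [0,2,1,3,4,5,6,7,5,4,3,2,1,3,4,5,6,0,2,3,4,5,1,3,4,2,3,0,2,1,3,4,5,6,7], [3,2,1,3,4,5,6,7,5,4,3,2,1,3,4,5,6,0,2,3,4,5,1,3,4,2,3,0,2,1,3,4,5,6,7],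 [3,0,2,1,3,4,5,6,7,4,3,2,1,3,4,5,6,0,2,3,4,5,1,3,4,2,3,0,2,1,3,4,5,6,7], [4,3,2,1,3,4,5,6,7,4,3,2,1,3,4,5,6,0,2,3,4,5,1,3,4,2,3,0,2,1,3,4,5,6,7], [2,3,0,2,1,3,4,5,6,7,3,2,1,3,4,5,6,0,2,3,4,5,1,3,4,2,3,0,2,1,3,4,5,6,7], [0,2,1,3,4,5,6,7,6,5,4,3,2,1,3,4,5,6,0,2,3,4,5,1,3,4,2,3,0,2,1,3,4,5,6,7], [3,2,1,3,4,5,6,7,6,5,4,3,2,1,3,4,5,6,0,2,3,4,5,1,3,4,2,3,0,2,1,3,4,5,6,7], [3,0,2,1,3,4,5,6,7,5,4,3,2,1,3,4,5,6,0,2,3,4,5,1,3,4,2,3,0,2,1,3,4,5,6,7], [4,3,2,1,3,4,5,6,7,5,4,3,2,1,3,4,5,6,0,2,3,4,5,1,3,4,2,3,0,2,1,3,4,5,6,7], [2,3,0,2,1,3,4,5,6,7,4,3,2,1,3,4,5,6,0,2,3,4,5,1,3,4,2,3,0,2,1,3,4,5,6,7], [4,3,0,2,1,3,4,5,6,7,4,3,2,1,3,4,5,6,0,2,3,4,5,1,3,4,2,3,0,2,1,3,4,5,6,7], [3,0,2,1,3,4,5,6,7,6,5,4,3,2,1,3,4,5,6,0,2,3,4,5,1,3,4,2,3,0,2,1,3,4,5,6,7], [4,3,2,1,3,4,5,6,7,6,5,4,3,2,1,3,4,5,6,0,2,3,4,5,1,3,4,2,3,0,2,1,3,4,5,6,7],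 [2,3,0,2,1,3,4,5,6,7,5,4,3,2,1,3,4,5,6,0,2,3,4,5,1,3,4,2,3,0,2,1,3,4,5,6,7], [4,3,0,2,1,3,4,5,6,7,5,4,3,2,1,3,4,5,6,0,2,3,4,5,1,3,4,2,3,0,2,1,3,4,5,6,7], [5,4,3,2,1,3,4,5,6,7,5,4,3,2,1,3,4,5,6,0,2,3,4,5,1,3,4,2,3,0,2,1,3,4,5,6,7], [4,2,3,0,2,1,3,4,5,6,7,4,3,2,1,3,4,5,6,0,2,3,4,5,1,3,4,2,3,0,2,1,3,4,5,6,7], [2,3,0,2,1,3,4,5,6,7,6,5,4,3,2,1,3,4,5,6,0,2,3,4,5,1,3,4,2,3,0,2,1,3,4,5,6,7], [4,3,0,2,1,3,4,5,6,7,6,5,4,3,2,1,3,4,5,6,0,2,3,4,5,1,3,4,2,3,0,2,1,3,4,5,6,7], [5,4,3,2,1,3,4,5,6,7,6,5,4,3,2,1,3,4,5,6,0,2,3,4,5,1,3,4,2,3,0,2,1,3,4,5,6,7], [4,2,3,0,2,1,3,4,5,6,7,5,4,3,2,1,3,4,5,6,0,2,3,4,5,1,3,4,2,3,0,2,1,3,4,5,6,7], [5,4,3,0,2,1,3,4,5,6,7,5,4,3,2,1,3,4,5,6,0,2,3,4,5,1,3,4,2,3,0,2,1,3,4,5,6,7], [3,4,2,3,0,2,1,3,4,5,6,7,4,3,2,1,3,4,5,6,0,2,3,4,5,1,3,4,2,3,0,2,1,3,4,5,6,7],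 [4,2,3,0,2,1,3,4,5,6,7,6,5,4,3,2,1,3,4,5,6,0,2,3,4,5,1,3,4,2,3,0,2,1,3,4,5,6,7], [5,4,3,0,2,1,3,4,5,6,7,6,5,4,3,2,1,3,4,5,6,0,2,3,4,5,1,3,4,2,3,0,2,1,3,4,5,6,7], [6,5,4,3,2,1,3,4,5,6,7,6,5,4,3,2,1,3,4,5,6,0,2,3,4,5,1,3,4,2,3,0,2,1,3,4,5,6,7], [3,4,2,3,0,2,1,3,4,5,6,7,5,4,3,2,1,3,4,5,6,0,2,3,4,5,1,3,4,2,3,0,2,1,3,4,5,6,7], [5,4,2,3,0,2,1,3,4,5,6,7,5,4,3,2,1,3,4,5,6,0,2,3,4,5,1,3,4,2,3,0,2,1,3,4,5,6,7], [1,3,4,2,3,0,2,1,3,4,5,6,7,4,3,2,1,3,4,5,6,0,2,3,4,5,1,3,4,2,3,0,2,1,3,4,5,6,7], [3,4,2,3,0,2,1,3,4,5,6,7,6,5,4,3,2,1,3,4,5,6,0,2,3,4,5,1,3,4,2,3,0,2,1,3,4,5,6,7], [5,4,2,3,0,2,1,3,4,5,6,7,6,5,4,3,2,1,3,4,5,6,0,2,3,4,5,1,3,4,2,3,0,2,1,3,4,5,6,7], [6,5,4,3,0,2,1,3,4,5,6,7,6,5,4,3,2,1,3,4,5,6,0,2,3,4,5,1,3,4,2,3,0,2,1,3,4,5,6,7], [1,3,4,2,3,0,2,1,3,4,5,6,7,5,4,3,2,1,3,4,5,6,0,2,3,4,5,1,3,4,2,3,0,2,1,3,4,5,6,7],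 [5,3,4,2,3,0,2,1,3,4,5,6,7,5,4,3,2,1,3,4,5,6,0,2,3,4,5,1,3,4,2,3,0,2,1,3,4,5,6,7], [1,3,4,2,3,0,2,1,3,4,5,6,7,6,5,4,3,2,1,3,4,5,6,0,2,3,4,5,1,3,4,2,3,0,2,1,3,4,5,6,7], [5,3,4,2,3,0,2,1,3,4,5,6,7,6,5,4,3,2,1,3,4,5,6,0,2,3,4,5,1,3,4,2,3,0,2,1,3,4,5,6,7], [6,5,4,2,3,0,2,1,3,4,5,6,7,6,5,4,3,2,1,3,4,5,6,0,2,3,4,5,1,3,4,2,3,0,2,1,3,4,5,6,7], [5,1,3,4,2,3,0,2,1,3,4,5,6,7,5,4,3,2,1,3,4,5,6,0,2,3,4,5,1,3,4,2,3,0,2,1,3,4,5,6,7], [4,5,3,4,2,3,0,2,1,3,4,5,6,7,5,4,3,2,1,3,4,5,6,0,2,3,4,5,1,3,4,2,3,0,2,1,3,4,5,6,7], [5,1,3,4,2,3,0,2,1,3,4,5,6,7,6,5,4,3,2,1,3,4,5,6,0,2,3,4,5,1,3,4,2,3,0,2,1,3,4,5,6,7], [4,5,3,4,2,3,0,2,1,3,4,5,6,7,6,5,4,3,2,1,3,4,5,6,0,2,3,4,5,1,3,4,2,3,0,2,1,3,4,5,6,7], [6,5,3,4,2,3,0,2,1,3,4,5,6,7,6,5,4,3,2,1,3,4,5,6,0,2,3,4,5,1,3,4,2,3,0,2,1,3,4,5,6,7], [4,5,1,3,4,2,3,0,2,1,3,4,5,6,7,5,4,3,2,1,3,4,5,6,0,2,3,4,5,1,3,4,2,3,0,2,1,3,4,5,6,7],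 [4,5,1,3,4,2,3,0,2,1,3,4,5,6,7,6,5,4,3,2,1,3,4,5,6,0,2,3,4,5,1,3,4,2,3,0,2,1,3,4,5,6,7], [6,5,1,3,4,2,3,0,2,1,3,4,5,6,7,6,5,4,3,2,1,3,4,5,6,0,2,3,4,5,1,3,4,2,3,0,2,1,3,4,5,6,7], [6,4,5,3,4,2,3,0,2,1,3,4,5,6,7,6,5,4,3,2,1,3,4,5,6,0,2,3,4,5,1,3,4,2,3,0,2,1,3,4,5,6,7], [3,4,5,1,3,4,2,3,0,2,1,3,4,5,6,7,5,4,3,2,1,3,4,5,6,0,2,3,4,5,1,3,4,2,3,0,2,1,3,4,5,6,7], [3,4,5,1,3,4,2,3,0,2,1,3,4,5,6,7,6,5,4,3,2,1,3,4,5,6,0,2,3,4,5,1,3,4,2,3,0,2,1,3,4,5,6,7], [6,4,5,1,3,4,2,3,0,2,1,3,4,5,6,7,6,5,4,3,2,1,3,4,5,6,0,2,3,4,5,1,3,4,2,3,0,2,1,3,4,5,6,7], [5,6,4,5,3,4,2,3,0,2,1,3,4,5,6,7,6,5,4,3,2,1,3,4,5,6,0,2,3,4,5,1,3,4,2,3,0,2,1,3,4,5,6,7], [2,3,4,5,1,3,4,2,3,0,2,1,3,4,5,6,7,5,4,3,2,1,3,4,5,6,0,2,3,4,5,1,3,4,2,3,0,2,1,3,4,5,6,7], [2,3,4,5,1,3,4,2,3,0,2,1,3,4,5,6,7,6,5,4,3,2,1,3,4,5,6,0,2,3,4,5,1,3,4,2,3,0,2,1,3,4,5,6,7],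 [6,3,4,5,1,3,4,2,3,0,2,1,3,4,5,6,7,6,5,4,3,2,1,3,4,5,6,0,2,3,4,5,1,3,4,2,3,0,2,1,3,4,5,6,7], [5,6,4,5,1,3,4,2,3,0,2,1,3,4,5,6,7,6,5,4,3,2,1,3,4,5,6,0,2,3,4,5,1,3,4,2,3,0,2,1,3,4,5,6,7], [0,2,3,4,5,1,3,4,2,3,0,2,1,3,4,5,6,7,5,4,3,2,1,3,4,5,6,0,2,3,4,5,1,3,4,2,3,0,2,1,3,4,5,6,7], [0,2,3,4,5,1,3,4,2,3,0,2,1,3,4,5,6,7,6,5,4,3,2,1,3,4,5,6,0,2,3,4,5,1,3,4,2,3,0,2,1,3,4,5,6,7], [6,2,3,4,5,1,3,4,2,3,0,2,1,3,4,5,6,7,6,5,4,3,2,1,3,4,5,6,0,2,3,4,5,1,3,4,2,3,0,2,1,3,4,5,6,7], [5,6,3,4,5,1,3,4,2,3,0,2,1,3,4,5,6,7,6,5,4,3,2,1,3,4,5,6,0,2,3,4,5,1,3,4,2,3,0,2,1,3,4,5,6,7], [6,0,2,3,4,5,1,3,4,2,3,0,2,1,3,4,5,6,7,6,5,4,3,2,1,3,4,5,6,0,2,3,4,5,1,3,4,2,3,0,2,1,3,4,5,6,7], [5,6,2,3,4,5,1,3,4,2,3,0,2,1,3,4,5,6,7,6,5,4,3,2,1,3,4,5,6,0,2,3,4,5,1,3,4,2,3,0,2,1,3,4,5,6,7], [4,5,6,3,4,5,1,3,4,2,3,0,2,1,3,4,5,6,7,6,5,4,3,2,1,3,4,5,6,0,2,3,4,5,1,3,4,2,3,0,2,1,3,4,5,6,7],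 [5,6,0,2,3,4,5,1,3,4,2,3,0,2,1,3,4,5,6,7,6,5,4,3,2,1,3,4,5,6,0,2,3,4,5,1,3,4,2,3,0,2,1,3,4,5,6,7], [4,5,6,2,3,4,5,1,3,4,2,3,0,2,1,3,4,5,6,7,6,5,4,3,2,1,3,4,5,6,0,2,3,4,5,1,3,4,2,3,0,2,1,3,4,5,6,7], [4,5,6,0,2,3,4,5,1,3,4,2,3,0,2,1,3,4,5,6,7,6,5,4,3,2,1,3,4,5,6,0,2,3,4,5,1,3,4,2,3,0,2,1,3,4,5,6,7], [3,4,5,6,2,3,4,5,1,3,4,2,3,0,2,1,3,4,5,6,7,6,5,4,3,2,1,3,4,5,6,0,2,3,4,5,1,3,4,2,3,0,2,1,3,4,5,6,7], [3,4,5,6,0,2,3,4,5,1,3,4,2,3,0,2,1,3,4,5,6,7,6,5,4,3,2,1,3,4,5,6,0,2,3,4,5,1,3,4,2,3,0,2,1,3,4,5,6,7], [1,3,4,5,6,2,3,4,5,1,3,4,2,3,0,2,1,3,4,5,6,7,6,5,4,3,2,1,3,4,5,6,0,2,3,4,5,1,3,4,2,3,0,2,1,3,4,5,6,7], [1,3,4,5,6,0,2,3,4,5,1,3,4,2,3,0,2,1,3,4,5,6,7,6,5,4,3,2,1,3,4,5,6,0,2,3,4,5,1,3,4,2,3,0,2,1,3,4,5,6,7], [2,3,4,5,6,0,2,3,4,5,1,3,4,2,3,0,2,1,3,4,5,6,7,6,5,4,3,2,1,3,4,5,6,0,2,3,4,5,1,3,4,2,3,0,2,1,3,4,5,6,7],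 [2,1,3,4,5,6,0,2,3,4,5,1,3,4,2,3,0,2,1,3,4,5,6,7,6,5,4,3,2,1,3,4,5,6,0,2,3,4,5,1,3,4,2,3,0,2,1,3,4,5,6,7], [3,2,1,3,4,5,6,0,2,3,4,5,1,3,4,2,3,0,2,1,3,4,5,6,7,6,5,4,3,2,1,3,4,5,6,0,2,3,4,5,1,3,4,2,3,0,2,1,3,4,5,6,7], [4,3,2,1,3,4,5,6,0,2,3,4,5,1,3,4,2,3,0,2,1,3,4,5,6,7,6,5,4,3,2,1,3,4,5,6,0,2,3,4,5,1,3,4,2,3,0,2,1,3,4,5,6,7], [5,4,3,2,1,3,4,5,6,0,2,3,4,5,1,3,4,2,3,0,2,1,3,4,5,6,7,6,5,4,3,2,1,3,4,5,6,0,2,3,4,5,1,3,4,2,3,0,2,1,3,4,5,6,7], [6,5,4,3,2,1,3,4,5,6,0,2,3,4,5,1,3,4,2,3,0,2,1,3,4,5,6,7,6,5,4,3,2,1,3,4,5,6,0,2,3,4,5,1,3,4,2,3,0,2,1,3,4,5,6,7], [7,6,5,4,3,2,1,3,4,5,6,0,2,3,4,5,1,3,4,2,3,0,2,1,3,4,5,6,7,6,5,4,3,2,1,3,4,5,6,0,2,3,4,5,1,3,4,2,3,0,2,1,3,4,5,6,7]]]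

/-- closure witnesses of level 0 -/
def wit0 : List (List (Nat × List Nat)) := [
  [(1,[])],
  [(0,[])]]

/-- closure witnesses of level 1 -/
def wit1 : List (List (Nat × List Nat)) := [
  [(0,[0]), (1,[])],
  [(1,[0]), (0,[])]]

/-- closure witnesses of level 2 -/
def wit2 : List (List (Nat × List Nat)) := [
  [(0,[0]), (0,[1]), (1,[])],
  [(2,[]), (1,[1]), (0,[])],
  [(1,[]), (2,[1]), (2,[0])]]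

/-- closure witnesses of level 3 -/
def wit3 : List (List (Nat × List Nat)) := [
  [(0,[0]), (0,[1]), (0,[2]), (1,[])],
  [(1,[0]), (2,[]), (3,[]), (0,[])],
  [(2,[0]), (1,[]), (4,[]), (2,[1])],
  [(5,[]), (4,[]), (1,[]), (3,[2])],
  [(6,[]), (3,[]), (2,[]), (7,[])],
  [(3,[]), (6,[]), (5,[0]), (5,[2])],
  [(4,[]), (5,[]), (6,[0]), (8,[])],
  [(8,[]), (7,[2]), (7,[1]), (4,[])],
  [(7,[]), (8,[2]), (9,[]), (6,[])],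
  [(9,[1]), (9,[2]), (8,[]), (9,[0])]]

/-- closure witnesses of level 4 -/
def wit4 : List (List (Nat × List Nat)) := [
  [(0,[0]), (0,[1]), (0,[2]), (0,[3]), (1,[])],
  [(1,[0]), (1,[1]), (1,[2]), (2,[]), (0,[])],
  [(2,[0]), (3,[]), (4,[]), (1,[]), (2,[3])],
  [(3,[0]), (2,[]), (5,[]), (3,[1]), (3,[3])],
  [(6,[]), (5,[]), (2,[]), (4,[2]), (4,[3])],
  [(7,[]), (4,[]), (3,[]), (8,[]), (5,[3])],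
  [(4,[]), (7,[]), (6,[0]), (6,[2]), (6,[3])],
  [(5,[]), (6,[]), (7,[0]), (9,[]), (7,[3])],
  [(9,[]), (8,[2]), (8,[1]), (5,[]), (10,[])],
  [(8,[]), (9,[2]), (11,[]), (7,[]), (12,[])],
  [(12,[]), (10,[2]), (10,[1]), (10,[3]), (8,[])],
  [(11,[1]), (11,[2]), (9,[]), (11,[0]), (13,[])],
  [(10,[]), (12,[2]), (13,[]), (12,[3]), (9,[])],
  [(13,[1]), (13,[2]), (12,[]), (14,[]), (11,[])],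
  [(14,[1]), (15,[]), (14,[3]), (13,[]), (14,[0])],
  [(15,[1]), (14,[]), (15,[3]), (15,[2]), (15,[0])]]

/-- closure witnesses of level 5 -/
def wit5 : List (List (Nat × List Nat)) := [
  [(0,[0]), (0,[1]), (0,[2]), (0,[3]), (0,[4]), (1,[])],
  [(1,[0]), (1,[1]), (1,[2]), (1,[3]), (2,[]), (0,[])],
  [(2,[0]), (2,[1]), (2,[2]), (3,[]), (1,[]), (2,[4])],
  [(3,[0]), (4,[]), (5,[]), (2,[]), (3,[3]), (3,[4])],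
  [(4,[0]), (3,[]), (6,[]), (4,[1]), (4,[3]), (4,[4])],
  [(7,[]), (6,[]), (3,[]), (5,[2]), (5,[3]), (5,[4])],
  [(8,[]), (5,[]), (4,[]), (9,[]), (6,[3]), (6,[4])],
  [(5,[]), (8,[]), (7,[0]), (7,[2]), (7,[3]), (7,[4])],
  [(6,[]), (7,[]), (8,[0]), (10,[]), (8,[3]), (8,[4])],
  [(10,[]), (9,[2]), (9,[1]), (6,[]), (11,[]), (9,[4])],
  [(9,[]), (10,[2]), (12,[]), (8,[]), (13,[]), (10,[4])],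
  [(13,[]), (11,[2]), (11,[1]), (11,[3]), (9,[]), (14,[])],
  [(12,[1]), (12,[2]), (10,[]), (12,[0]), (15,[]), (12,[4])],
  [(11,[]), (13,[2]), (15,[]), (13,[3]), (10,[]), (16,[])],
  [(16,[]), (14,[2]), (14,[1]), (14,[3]), (14,[4]), (11,[])],
  [(15,[1]), (15,[2]), (13,[]), (17,[]), (12,[]), (18,[])],
  [(14,[]), (16,[2]), (18,[]), (16,[3]), (16,[4]), (13,[])],
  [(17,[1]), (19,[]), (17,[3]), (15,[]), (17,[0]), (20,[])],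
  [(18,[1]), (18,[2]), (16,[]), (20,[]), (18,[4]), (15,[])],
  [(19,[1]), (17,[]), (19,[3]), (19,[2]), (19,[0]), (21,[])],
  [(20,[1]), (21,[]), (20,[3]), (18,[]), (22,[]), (17,[])],
  [(21,[1]), (20,[]), (21,[3]), (21,[2]), (23,[]), (19,[])],
  [(22,[1]), (23,[]), (22,[3]), (22,[4]), (20,[]), (22,[0])],
  [(23,[1]), (22,[]), (23,[3]), (24,[]), (21,[]), (23,[0])],
  [(24,[1]), (24,[4]), (25,[]), (23,[]), (24,[2]), (24,[0])],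
  [(26,[]), (25,[4]), (24,[]), (25,[3]), (25,[2]), (25,[0])],
  [(25,[]), (26,[4]), (26,[1]), (26,[3]), (26,[2]), (26,[0])]]

/-- closure witnesses of level 6 -/
def wit6 : List (List (Nat × List Nat)) := [
  [(0,[0]), (0,[1]), (0,[2]), (0,[3]), (0,[4]), (0,[5]), (1,[])],
  [(1,[0]), (1,[1]), (1,[2]), (1,[3]), (1,[4]), (2,[]), (0,[])],
  [(2,[0]), (2,[1]), (2,[2]), (2,[3]), (3,[]), (1,[]), (2,[5])],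
  [(3,[0]), (3,[1]), (3,[2]), (4,[]), (2,[]), (3,[4]), (3,[5])],
  [(4,[0]), (5,[]), (6,[]), (3,[]), (4,[3]), (4,[4]), (4,[5])],
  [(5,[0]), (4,[]), (7,[]), (5,[1]), (5,[3]), (5,[4]), (5,[5])],
  [(8,[]), (7,[]), (4,[]), (6,[2]), (6,[3]), (6,[4]), (6,[5])],
  [(9,[]), (6,[]), (5,[]), (10,[]), (7,[3]), (7,[4]), (7,[5])],
  [(6,[]), (9,[]), (8,[0]), (8,[2]), (8,[3]), (8,[4]), (8,[5])],
  [(7,[]), (8,[]), (9,[0]), (11,[]), (9,[3]), (9,[4]), (9,[5])],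
  [(11,[]), (10,[2]), (10,[1]), (7,[]), (12,[]), (10,[4]), (10,[5])],
  [(10,[]), (11,[2]), (13,[]), (9,[]), (14,[]), (11,[4]), (11,[5])],
  [(14,[]), (12,[2]), (12,[1]), (12,[3]), (10,[]), (15,[]), (12,[5])],
  [(13,[1]), (13,[2]), (11,[]), (13,[0]), (16,[]), (13,[4]), (13,[5])],
  [(12,[]), (14,[2]), (16,[]), (14,[3]), (11,[]), (17,[]), (14,[5])],
  [(17,[]), (15,[2]), (15,[1]), (15,[3]), (15,[4]), (12,[]), (18,[])],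
  [(16,[1]), (16,[2]), (14,[]), (19,[]), (13,[]), (20,[]), (16,[5])],
  [(15,[]), (17,[2]), (20,[]), (17,[3]), (17,[4]), (14,[]), (21,[])],
  [(21,[]), (18,[2]), (18,[1]), (18,[3]), (18,[4]), (18,[5]), (15,[])],
  [(19,[1]), (22,[]), (19,[3]), (16,[]), (19,[0]), (23,[]), (19,[5])],
  [(20,[1]), (20,[2]), (17,[]), (23,[]), (20,[4]), (16,[]), (24,[])],
  [(18,[]), (21,[2]), (24,[]), (21,[3]), (21,[4]), (21,[5]), (17,[])],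
  [(22,[1]), (19,[]), (22,[3]), (22,[2]), (22,[0]), (25,[]), (22,[5])],
  [(23,[1]), (25,[]), (23,[3]), (20,[]), (26,[]), (19,[]), (27,[])],
  [(24,[1]), (24,[2]), (21,[]), (27,[]), (24,[4]), (24,[5]), (20,[])],
  [(25,[1]), (23,[]), (25,[3]), (25,[2]), (28,[]), (22,[]), (29,[])],
  [(26,[1]), (28,[]), (26,[3]), (26,[4]), (23,[]), (26,[0]), (30,[])],
  [(27,[1]), (29,[]), (27,[3]), (24,[]), (30,[]), (27,[5]), (23,[])],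
  [(28,[1]), (26,[]), (28,[3]), (31,[]), (25,[]), (28,[0]), (32,[])],
  [(29,[1]), (27,[]), (29,[3]), (29,[2]), (32,[]), (29,[5]), (25,[])],
  [(30,[1]), (32,[]), (30,[3]), (30,[4]), (27,[]), (33,[]), (26,[])],
  [(31,[1]), (31,[4]), (34,[]), (28,[]), (31,[2]), (31,[0]), (35,[])],
  [(32,[1]), (30,[]), (32,[3]), (35,[]), (29,[]), (36,[]), (28,[])],
  [(33,[1]), (36,[]), (33,[3]), (33,[4]), (33,[5]), (30,[]), (33,[0])],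
  [(37,[]), (34,[4]), (31,[]), (34,[3]), (34,[2]), (34,[0]), (38,[])],
  [(35,[1]), (35,[4]), (38,[]), (32,[]), (35,[2]), (39,[]), (31,[])],
  [(36,[1]), (33,[]), (36,[3]), (39,[]), (36,[5]), (32,[]), (36,[0])],
  [(34,[]), (37,[4]), (37,[1]), (37,[3]), (37,[2]), (37,[0]), (40,[])],
  [(40,[]), (38,[4]), (35,[]), (38,[3]), (38,[2]), (41,[]), (34,[])],
  [(39,[1]), (39,[4]), (41,[]), (36,[]), (42,[]), (35,[]), (39,[0])],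
  [(38,[]), (40,[4]), (40,[1]), (40,[3]), (40,[2]), (43,[]), (37,[])],
  [(43,[]), (41,[4]), (39,[]), (41,[3]), (44,[]), (38,[]), (41,[0])],
  [(42,[1]), (42,[4]), (44,[]), (42,[5]), (39,[]), (42,[2]), (42,[0])],
  [(41,[]), (43,[4]), (43,[1]), (43,[3]), (45,[]), (40,[]), (43,[0])],
  [(45,[]), (44,[4]), (42,[]), (46,[]), (41,[]), (44,[2]), (44,[0])],
  [(44,[]), (45,[4]), (45,[1]), (47,[]), (43,[]), (45,[2]), (45,[0])],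
  [(47,[]), (48,[]), (46,[5]), (44,[]), (46,[3]), (46,[2]), (46,[0])],
  [(46,[]), (49,[]), (50,[]), (45,[]), (47,[3]), (47,[2]), (47,[0])],
  [(49,[]), (46,[]), (48,[5]), (48,[4]), (48,[3]), (48,[2]), (48,[0])],
  [(48,[]), (47,[]), (51,[]), (49,[4]), (49,[3]), (49,[2]), (49,[0])],
  [(50,[5]), (51,[]), (47,[]), (50,[1]), (50,[3]), (50,[2]), (50,[0])],
  [(51,[5]), (50,[]), (49,[]), (52,[]), (51,[3]), (51,[2]), (51,[0])],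
  [(52,[5]), (52,[1]), (52,[4]), (51,[]), (53,[]), (52,[2]), (52,[0])],
  [(53,[5]), (53,[1]), (53,[4]), (53,[3]), (52,[]), (54,[]), (53,[0])],
  [(54,[5]), (54,[1]), (54,[4]), (54,[3]), (54,[2]), (53,[]), (55,[])],
  [(55,[5]), (55,[1]), (55,[4]), (55,[3]), (55,[2]), (55,[0]), (54,[])]]

/-- closure witnesses of level 7 -/
def wit7 : List (List (Nat × List Nat)) := [
  [(0,[0]), (0,[1]), (0,[2]), (0,[3]), (0,[4]), (0,[5]), (0,[6]), (1,[])],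
  [(1,[0]), (1,[1]), (1,[2]), (1,[3]), (1,[4]), (1,[5]), (2,[]), (0,[])],
  [(2,[0]), (2,[1]), (2,[2]), (2,[3]), (2,[4]), (3,[]), (1,[]), (2,[6])],
  [(3,[0]), (3,[1]), (3,[2]), (3,[3]), (4,[]), (2,[]), (3,[5]), (3,[6])],
  [(4,[0]), (4,[1]), (4,[2]), (5,[]), (3,[]), (4,[4]), (4,[5]), (4,[6])],
  [(5,[0]), (6,[]), (7,[]), (4,[]), (5,[3]), (5,[4]), (5,[5]), (5,[6])],
  [(6,[0]), (5,[]), (8,[]), (6,[1]), (6,[3]), (6,[4]), (6,[5]), (6,[6])],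
  [(9,[]), (8,[]), (5,[]), (7,[2]), (7,[3]), (7,[4]), (7,[5]), (7,[6])],
  [(10,[]), (7,[]), (6,[]), (11,[]), (8,[3]), (8,[4]), (8,[5]), (8,[6])],
  [(7,[]), (10,[]), (9,[0]), (9,[2]), (9,[3]), (9,[4]), (9,[5]), (9,[6])],
  [(8,[]), (9,[]), (10,[0]), (12,[]), (10,[3]), (10,[4]), (10,[5]), (10,[6])],
  [(12,[]), (11,[2]), (11,[1]), (8,[]), (13,[]), (11,[4]), (11,[5]), (11,[6])],
  [(11,[]), (12,[2]), (14,[]), (10,[]), (15,[]), (12,[4]), (12,[5]), (12,[6])],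
  [(15,[]), (13,[2]), (13,[1]), (13,[3]), (11,[]), (16,[]), (13,[5]), (13,[6])],
  [(14,[1]), (14,[2]), (12,[]), (14,[0]), (17,[]), (14,[4]), (14,[5]), (14,[6])],
  [(13,[]), (15,[2]), (17,[]), (15,[3]), (12,[]), (18,[]), (15,[5]), (15,[6])],
  [(18,[]), (16,[2]), (16,[1]), (16,[3]), (16,[4]), (13,[]), (19,[]), (16,[6])],
  [(17,[1]), (17,[2]), (15,[]), (20,[]), (14,[]), (21,[]), (17,[5]), (17,[6])],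
  [(16,[]), (18,[2]), (21,[]), (18,[3]), (18,[4]), (15,[]), (22,[]), (18,[6])],
  [(22,[]), (19,[2]), (19,[1]), (19,[3]), (19,[4]), (19,[5]), (16,[]), (23,[])],
  [(20,[1]), (24,[]), (20,[3]), (17,[]), (20,[0]), (25,[]), (20,[5]), (20,[6])],
  [(21,[1]), (21,[2]), (18,[]), (25,[]), (21,[4]), (17,[]), (26,[]), (21,[6])],
  [(19,[]), (22,[2]), (26,[]), (22,[3]), (22,[4]), (22,[5]), (18,[]), (27,[])],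
  [(27,[]), (23,[2]), (23,[1]), (23,[3]), (23,[4]), (23,[5]), (23,[6]), (19,[])],
  [(24,[1]), (20,[]), (24,[3]), (24,[2]), (24,[0]), (28,[]), (24,[5]), (24,[6])],
  [(25,[1]), (28,[]), (25,[3]), (21,[]), (29,[]), (20,[]), (30,[]), (25,[6])],
  [(26,[1]), (26,[2]), (22,[]), (30,[]), (26,[4]), (26,[5]), (21,[]), (31,[])],
  [(23,[]), (27,[2]), (31,[]), (27,[3]), (27,[4]), (27,[5]), (27,[6]), (22,[])],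
  [(28,[1]), (25,[]), (28,[3]), (28,[2]), (32,[]), (24,[]), (33,[]), (28,[6])],
  [(29,[1]), (32,[]), (29,[3]), (29,[4]), (25,[]), (29,[0]), (34,[]), (29,[6])],
  [(30,[1]), (33,[]), (30,[3]), (26,[]), (34,[]), (30,[5]), (25,[]), (35,[])],
  [(31,[1]), (31,[2]), (27,[]), (35,[]), (31,[4]), (31,[5]), (31,[6]), (26,[])],
  [(32,[1]), (29,[]), (32,[3]), (36,[]), (28,[]), (32,[0]), (37,[]), (32,[6])],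
  [(33,[1]), (30,[]), (33,[3]), (33,[2]), (37,[]), (33,[5]), (28,[]), (38,[])],
  [(34,[1]), (37,[]), (34,[3]), (34,[4]), (30,[]), (39,[]), (29,[]), (40,[])],
  [(35,[1]), (38,[]), (35,[3]), (31,[]), (40,[]), (35,[5]), (35,[6]), (30,[])],
  [(36,[1]), (36,[4]), (41,[]), (32,[]), (36,[2]), (36,[0]), (42,[]), (36,[6])],
  [(37,[1]), (34,[]), (37,[3]), (42,[]), (33,[]), (43,[]), (32,[]), (44,[])],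
  [(38,[1]), (35,[]), (38,[3]), (38,[2]), (44,[]), (38,[5]), (38,[6]), (33,[])],
  [(39,[1]), (43,[]), (39,[3]), (39,[4]), (39,[5]), (34,[]), (39,[0]), (45,[])],
  [(40,[1]), (44,[]), (40,[3]), (40,[4]), (35,[]), (45,[]), (40,[6]), (34,[])],
  [(46,[]), (41,[4]), (36,[]), (41,[3]), (41,[2]), (41,[0]), (47,[]), (41,[6])],
  [(42,[1]), (42,[4]), (47,[]), (37,[]), (42,[2]), (48,[]), (36,[]), (49,[])],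
  [(43,[1]), (39,[]), (43,[3]), (48,[]), (43,[5]), (37,[]), (43,[0]), (50,[])],
  [(44,[1]), (40,[]), (44,[3]), (49,[]), (38,[]), (50,[]), (44,[6]), (37,[])],
  [(45,[1]), (50,[]), (45,[3]), (45,[4]), (45,[5]), (40,[]), (51,[]), (39,[])],
  [(41,[]), (46,[4]), (46,[1]), (46,[3]), (46,[2]), (46,[0]), (52,[]), (46,[6])],
  [(52,[]), (47,[4]), (42,[]), (47,[3]), (47,[2]), (53,[]), (41,[]), (54,[])],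
  [(48,[1]), (48,[4]), (53,[]), (43,[]), (55,[]), (42,[]), (48,[0]), (56,[])],
  [(49,[1]), (49,[4]), (54,[]), (44,[]), (49,[2]), (56,[]), (49,[6]), (42,[])],
  [(50,[1]), (45,[]), (50,[3]), (56,[]), (50,[5]), (44,[]), (57,[]), (43,[])],
  [(51,[1]), (57,[]), (51,[3]), (51,[4]), (51,[5]), (51,[6]), (45,[]), (51,[0])],
  [(47,[]), (52,[4]), (52,[1]), (52,[3]), (52,[2]), (58,[]), (46,[]), (59,[])],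
  [(58,[]), (53,[4]), (48,[]), (53,[3]), (60,[]), (47,[]), (53,[0]), (61,[])],
  [(59,[]), (54,[4]), (49,[]), (54,[3]), (54,[2]), (61,[]), (54,[6]), (47,[])],
  [(55,[1]), (55,[4]), (60,[]), (55,[5]), (48,[]), (55,[2]), (55,[0]), (62,[])],
  [(56,[1]), (56,[4]), (61,[]), (50,[]), (62,[]), (49,[]), (63,[]), (48,[])],
  [(57,[1]), (51,[]), (57,[3]), (63,[]), (57,[5]), (57,[6]), (50,[]), (57,[0])],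
  [(53,[]), (58,[4]), (58,[1]), (58,[3]), (64,[]), (52,[]), (58,[0]), (65,[])],
  [(54,[]), (59,[4]), (59,[1]), (59,[3]), (59,[2]), (65,[]), (59,[6]), (52,[])],
  [(64,[]), (60,[4]), (55,[]), (66,[]), (53,[]), (60,[2]), (60,[0]), (67,[])],
  [(65,[]), (61,[4]), (56,[]), (61,[3]), (67,[]), (54,[]), (68,[]), (53,[])],
  [(62,[1]), (62,[4]), (67,[]), (62,[5]), (56,[]), (62,[2]), (69,[]), (55,[])],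
  [(63,[1]), (63,[4]), (68,[]), (57,[]), (69,[]), (63,[6]), (56,[]), (63,[0])],
  [(60,[]), (64,[4]), (64,[1]), (70,[]), (58,[]), (64,[2]), (64,[0]), (71,[])],
  [(61,[]), (65,[4]), (65,[1]), (65,[3]), (71,[]), (59,[]), (72,[]), (58,[])],
  [(70,[]), (73,[]), (66,[5]), (60,[]), (66,[3]), (66,[2]), (66,[0]), (74,[])],
  [(71,[]), (67,[4]), (62,[]), (74,[]), (61,[]), (67,[2]), (75,[]), (60,[])],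
  [(72,[]), (68,[4]), (63,[]), (68,[3]), (75,[]), (68,[6]), (61,[]), (68,[0])],
  [(69,[1]), (69,[4]), (75,[]), (69,[5]), (63,[]), (76,[]), (62,[]), (69,[0])],
  [(66,[]), (77,[]), (78,[]), (64,[]), (70,[3]), (70,[2]), (70,[0]), (79,[])],
  [(67,[]), (71,[4]), (71,[1]), (79,[]), (65,[]), (71,[2]), (80,[]), (64,[])],
  [(68,[]), (72,[4]), (72,[1]), (72,[3]), (80,[]), (72,[6]), (65,[]), (72,[0])],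
  [(77,[]), (66,[]), (73,[5]), (73,[4]), (73,[3]), (73,[2]), (73,[0]), (81,[])],
  [(79,[]), (81,[]), (74,[5]), (67,[]), (74,[3]), (74,[2]), (82,[]), (66,[])],
  [(80,[]), (75,[4]), (69,[]), (82,[]), (68,[]), (83,[]), (67,[]), (75,[0])],
  [(76,[1]), (76,[4]), (83,[]), (76,[5]), (76,[6]), (69,[]), (76,[2]), (76,[0])],
  [(73,[]), (70,[]), (84,[]), (77,[4]), (77,[3]), (77,[2]), (77,[0]), (85,[])],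
  [(78,[5]), (84,[]), (70,[]), (78,[1]), (78,[3]), (78,[2]), (78,[0]), (86,[])],
  [(74,[]), (85,[]), (86,[]), (71,[]), (79,[3]), (79,[2]), (87,[]), (70,[])],
  [(75,[]), (80,[4]), (80,[1]), (87,[]), (72,[]), (88,[]), (71,[]), (80,[0])],
  [(85,[]), (74,[]), (81,[5]), (81,[4]), (81,[3]), (81,[2]), (89,[]), (73,[])],
  [(87,[]), (89,[]), (82,[5]), (75,[]), (82,[3]), (90,[]), (74,[]), (82,[0])],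
  [(88,[]), (83,[4]), (76,[]), (90,[]), (83,[6]), (75,[]), (83,[2]), (83,[0])],
  [(84,[5]), (78,[]), (77,[]), (91,[]), (84,[3]), (84,[2]), (84,[0]), (92,[])],
  [(81,[]), (79,[]), (92,[]), (85,[4]), (85,[3]), (85,[2]), (93,[]), (77,[])],
  [(86,[5]), (92,[]), (79,[]), (86,[1]), (86,[3]), (86,[2]), (94,[]), (78,[])],
  [(82,[]), (93,[]), (94,[]), (80,[]), (87,[3]), (95,[]), (79,[]), (87,[0])],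
  [(83,[]), (88,[4]), (88,[1]), (95,[]), (88,[6]), (80,[]), (88,[2]), (88,[0])],
  [(93,[]), (82,[]), (89,[5]), (89,[4]), (89,[3]), (96,[]), (81,[]), (89,[0])],
  [(95,[]), (96,[]), (90,[5]), (83,[]), (97,[]), (82,[]), (90,[2]), (90,[0])],
  [(91,[5]), (91,[1]), (91,[4]), (84,[]), (98,[]), (91,[2]), (91,[0]), (99,[])],
  [(92,[5]), (86,[]), (85,[]), (99,[]), (92,[3]), (92,[2]), (100,[]), (84,[])],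
  [(89,[]), (87,[]), (100,[]), (93,[4]), (93,[3]), (101,[]), (85,[]), (93,[0])],
  [(94,[5]), (100,[]), (87,[]), (94,[1]), (94,[3]), (102,[]), (86,[]), (94,[0])],
  [(90,[]), (101,[]), (102,[]), (88,[]), (103,[]), (87,[]), (95,[2]), (95,[0])],
  [(101,[]), (90,[]), (96,[5]), (96,[4]), (104,[]), (89,[]), (96,[2]), (96,[0])],
  [(103,[]), (104,[]), (97,[5]), (97,[6]), (90,[]), (97,[3]), (97,[2]), (97,[0])],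
  [(98,[5]), (98,[1]), (98,[4]), (98,[3]), (91,[]), (105,[]), (98,[0]), (106,[])],
  [(99,[5]), (99,[1]), (99,[4]), (92,[]), (106,[]), (99,[2]), (107,[]), (91,[])],
  [(100,[5]), (94,[]), (93,[]), (107,[]), (100,[3]), (108,[]), (92,[]), (100,[0])],
  [(96,[]), (95,[]), (108,[]), (101,[4]), (109,[]), (93,[]), (101,[2]), (101,[0])],
  [(102,[5]), (108,[]), (95,[]), (102,[1]), (110,[]), (94,[]), (102,[2]), (102,[0])],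
  [(97,[]), (109,[]), (110,[]), (103,[6]), (95,[]), (103,[3]), (103,[2]), (103,[0])],
  [(109,[]), (97,[]), (104,[5]), (111,[]), (96,[]), (104,[3]), (104,[2]), (104,[0])],
  [(105,[5]), (105,[1]), (105,[4]), (105,[3]), (105,[2]), (98,[]), (112,[]), (113,[])],
  [(106,[5]), (106,[1]), (106,[4]), (106,[3]), (99,[]), (113,[]), (114,[]), (98,[])],
  [(107,[5]), (107,[1]), (107,[4]), (100,[]), (114,[]), (115,[]), (99,[]), (107,[0])],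
  [(108,[5]), (102,[]), (101,[]), (115,[]), (116,[]), (100,[]), (108,[2]), (108,[0])],
  [(104,[]), (103,[]), (116,[]), (117,[]), (101,[]), (109,[3]), (109,[2]), (109,[0])],
  [(110,[5]), (116,[]), (103,[]), (118,[]), (102,[]), (110,[3]), (110,[2]), (110,[0])],
  [(117,[]), (111,[6]), (119,[]), (104,[]), (111,[4]), (111,[3]), (111,[2]), (111,[0])],
  [(112,[5]), (112,[1]), (112,[4]), (112,[3]), (112,[2]), (112,[0]), (105,[]), (120,[])],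
  [(113,[5]), (113,[1]), (113,[4]), (113,[3]), (113,[2]), (106,[]), (121,[]), (105,[])],
  [(114,[5]), (114,[1]), (114,[4]), (114,[3]), (107,[]), (122,[]), (106,[]), (114,[0])],
  [(115,[5]), (115,[1]), (115,[4]), (108,[]), (123,[]), (107,[]), (115,[2]), (115,[0])],
  [(116,[5]), (110,[]), (109,[]), (124,[]), (108,[]), (116,[3]), (116,[2]), (116,[0])],
  [(111,[]), (117,[6]), (125,[]), (109,[]), (117,[4]), (117,[3]), (117,[2]), (117,[0])],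
  [(118,[5]), (126,[]), (118,[6]), (110,[]), (118,[1]), (118,[3]), (118,[2]), (118,[0])],
  [(127,[]), (119,[6]), (111,[]), (119,[5]), (119,[4]), (119,[3]), (119,[2]), (119,[0])],
  [(120,[5]), (120,[1]), (120,[4]), (120,[3]), (120,[2]), (120,[0]), (128,[]), (112,[])],
  [(121,[5]), (121,[1]), (121,[4]), (121,[3]), (121,[2]), (129,[]), (113,[]), (128,[])],
  [(122,[5]), (122,[1]), (122,[4]), (122,[3]), (130,[]), (114,[]), (129,[]), (122,[0])],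
  [(123,[5]), (123,[1]), (123,[4]), (131,[]), (115,[]), (130,[]), (123,[2]), (123,[0])],
  [(124,[5]), (132,[]), (133,[]), (116,[]), (131,[]), (124,[3]), (124,[2]), (124,[0])],
  [(134,[]), (125,[6]), (117,[]), (133,[]), (125,[4]), (125,[3]), (125,[2]), (125,[0])],
  [(126,[5]), (118,[]), (126,[6]), (132,[]), (126,[1]), (126,[3]), (126,[2]), (126,[0])],
  [(119,[]), (127,[6]), (134,[]), (127,[5]), (127,[4]), (127,[3]), (127,[2]), (127,[0])],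
  [(128,[5]), (128,[1]), (128,[4]), (128,[3]), (128,[2]), (135,[]), (120,[]), (121,[])],
  [(129,[5]), (129,[1]), (129,[4]), (129,[3]), (136,[]), (121,[]), (122,[]), (135,[])],
  [(130,[5]), (130,[1]), (130,[4]), (137,[]), (122,[]), (123,[]), (136,[]), (130,[0])],
  [(131,[5]), (138,[]), (139,[]), (123,[]), (124,[]), (137,[]), (131,[2]), (131,[0])],
  [(132,[5]), (124,[]), (140,[]), (126,[]), (138,[]), (132,[3]), (132,[2]), (132,[0])],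
  [(141,[]), (140,[]), (124,[]), (125,[]), (139,[]), (133,[3]), (133,[2]), (133,[0])],
  [(125,[]), (134,[6]), (127,[]), (141,[]), (134,[4]), (134,[3]), (134,[2]), (134,[0])],
  [(135,[5]), (135,[1]), (135,[4]), (135,[3]), (142,[]), (128,[]), (135,[0]), (129,[])],
  [(136,[5]), (136,[1]), (136,[4]), (143,[]), (129,[]), (136,[2]), (130,[]), (142,[])],
  [(137,[5]), (144,[]), (145,[]), (130,[]), (137,[3]), (131,[]), (143,[]), (137,[0])],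
  [(138,[5]), (131,[]), (146,[]), (138,[1]), (132,[]), (144,[]), (138,[2]), (138,[0])],
  [(147,[]), (146,[]), (131,[]), (139,[4]), (133,[]), (145,[]), (139,[2]), (139,[0])],
  [(148,[]), (133,[]), (132,[]), (140,[6]), (146,[]), (140,[3]), (140,[2]), (140,[0])],
  [(133,[]), (148,[]), (141,[5]), (134,[]), (147,[]), (141,[3]), (141,[2]), (141,[0])],
  [(142,[5]), (142,[1]), (142,[4]), (149,[]), (135,[]), (142,[2]), (142,[0]), (136,[])],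
  [(143,[5]), (150,[]), (151,[]), (136,[]), (143,[3]), (143,[2]), (137,[]), (149,[])],
  [(144,[5]), (137,[]), (152,[]), (144,[1]), (144,[3]), (138,[]), (150,[]), (144,[0])],
  [(153,[]), (152,[]), (137,[]), (145,[4]), (145,[3]), (139,[]), (151,[]), (145,[0])],
  [(154,[]), (139,[]), (138,[]), (155,[]), (140,[]), (152,[]), (146,[2]), (146,[0])],
  [(139,[]), (154,[]), (147,[5]), (147,[4]), (141,[]), (153,[]), (147,[2]), (147,[0])],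
  [(140,[]), (141,[]), (148,[5]), (148,[6]), (154,[]), (148,[3]), (148,[2]), (148,[0])],
  [(149,[5]), (156,[]), (157,[]), (142,[]), (149,[3]), (149,[2]), (149,[0]), (143,[])],
  [(150,[5]), (143,[]), (158,[]), (150,[1]), (150,[3]), (150,[2]), (144,[]), (156,[])],
  [(159,[]), (158,[]), (143,[]), (151,[4]), (151,[3]), (151,[2]), (145,[]), (157,[])],
  [(160,[]), (145,[]), (144,[]), (161,[]), (152,[3]), (146,[]), (158,[]), (152,[0])],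
  [(145,[]), (160,[]), (153,[5]), (153,[4]), (153,[3]), (147,[]), (159,[]), (153,[0])],
  [(146,[]), (147,[]), (154,[5]), (162,[]), (148,[]), (160,[]), (154,[2]), (154,[0])],
  [(162,[]), (155,[4]), (155,[1]), (146,[]), (155,[6]), (161,[]), (155,[2]), (155,[0])],
  [(156,[5]), (149,[]), (163,[]), (156,[1]), (156,[3]), (156,[2]), (156,[0]), (150,[])],
  [(164,[]), (163,[]), (149,[]), (157,[4]), (157,[3]), (157,[2]), (157,[0]), (151,[])],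
  [(165,[]), (151,[]), (150,[]), (166,[]), (158,[3]), (158,[2]), (152,[]), (163,[])],
  [(151,[]), (165,[]), (159,[5]), (159,[4]), (159,[3]), (159,[2]), (153,[]), (164,[])],
  [(152,[]), (153,[]), (160,[5]), (167,[]), (160,[3]), (154,[]), (165,[]), (160,[0])],
  [(167,[]), (161,[4]), (161,[1]), (152,[]), (168,[]), (155,[]), (166,[]), (161,[0])],
  [(155,[]), (162,[4]), (169,[]), (154,[]), (162,[6]), (167,[]), (162,[2]), (162,[0])],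
  [(170,[]), (157,[]), (156,[]), (171,[]), (163,[3]), (163,[2]), (163,[0]), (158,[])],
  [(157,[]), (170,[]), (164,[5]), (164,[4]), (164,[3]), (164,[2]), (164,[0]), (159,[])],
  [(158,[]), (159,[]), (165,[5]), (172,[]), (165,[3]), (165,[2]), (160,[]), (170,[])],
  [(172,[]), (166,[4]), (166,[1]), (158,[]), (173,[]), (166,[2]), (161,[]), (171,[])],
  [(161,[]), (167,[4]), (174,[]), (160,[]), (175,[]), (162,[]), (172,[]), (167,[0])],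
  [(175,[]), (168,[4]), (168,[1]), (168,[3]), (161,[]), (168,[6]), (173,[]), (168,[0])],
  [(169,[1]), (169,[4]), (162,[]), (169,[5]), (169,[6]), (174,[]), (169,[2]), (169,[0])],
  [(163,[]), (164,[]), (170,[5]), (176,[]), (170,[3]), (170,[2]), (170,[0]), (165,[])],
  [(176,[]), (171,[4]), (171,[1]), (163,[]), (177,[]), (171,[2]), (171,[0]), (166,[])],
  [(166,[]), (172,[4]), (178,[]), (165,[]), (179,[]), (172,[2]), (167,[]), (176,[])],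
  [(179,[]), (173,[4]), (173,[1]), (173,[3]), (166,[]), (180,[]), (168,[]), (177,[])],
  [(174,[1]), (174,[4]), (167,[]), (174,[5]), (181,[]), (169,[]), (178,[]), (174,[0])],
  [(168,[]), (175,[4]), (181,[]), (175,[3]), (167,[]), (175,[6]), (179,[]), (175,[0])],
  [(171,[]), (176,[4]), (182,[]), (170,[]), (183,[]), (176,[2]), (176,[0]), (172,[])],
  [(183,[]), (177,[4]), (177,[1]), (177,[3]), (171,[]), (184,[]), (177,[0]), (173,[])],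
  [(178,[1]), (178,[4]), (172,[]), (178,[5]), (185,[]), (178,[2]), (174,[]), (182,[])],
  [(173,[]), (179,[4]), (185,[]), (179,[3]), (172,[]), (186,[]), (175,[]), (183,[])],
  [(186,[]), (180,[4]), (180,[1]), (180,[3]), (180,[2]), (173,[]), (180,[6]), (184,[])],
  [(181,[1]), (181,[4]), (175,[]), (187,[]), (174,[]), (181,[6]), (185,[]), (181,[0])],
  [(182,[1]), (182,[4]), (176,[]), (182,[5]), (188,[]), (182,[2]), (182,[0]), (178,[])],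
  [(177,[]), (183,[4]), (188,[]), (183,[3]), (176,[]), (189,[]), (183,[0]), (179,[])],
  [(189,[]), (184,[4]), (184,[1]), (184,[3]), (184,[2]), (177,[]), (190,[]), (180,[])],
  [(185,[1]), (185,[4]), (179,[]), (191,[]), (178,[]), (192,[]), (181,[]), (188,[])],
  [(180,[]), (186,[4]), (192,[]), (186,[3]), (186,[2]), (179,[]), (186,[6]), (189,[])],
  [(187,[1]), (193,[]), (187,[3]), (181,[]), (187,[5]), (187,[6]), (191,[]), (187,[0])],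
  [(188,[1]), (188,[4]), (183,[]), (194,[]), (182,[]), (195,[]), (188,[0]), (185,[])],
  [(184,[]), (189,[4]), (195,[]), (189,[3]), (189,[2]), (183,[]), (196,[]), (186,[])],
  [(196,[]), (190,[4]), (190,[1]), (190,[3]), (190,[2]), (190,[0]), (184,[]), (190,[6])],
  [(191,[1]), (197,[]), (191,[3]), (185,[]), (191,[5]), (198,[]), (187,[]), (194,[])],
  [(192,[1]), (192,[4]), (186,[]), (198,[]), (192,[2]), (185,[]), (192,[6]), (195,[])],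
  [(193,[1]), (187,[]), (193,[3]), (193,[4]), (193,[5]), (193,[6]), (197,[]), (193,[0])],
  [(194,[1]), (199,[]), (194,[3]), (188,[]), (194,[5]), (200,[]), (194,[0]), (191,[])],
  [(195,[1]), (195,[4]), (189,[]), (200,[]), (195,[2]), (188,[]), (201,[]), (192,[])],
  [(190,[]), (196,[4]), (201,[]), (196,[3]), (196,[2]), (196,[0]), (189,[]), (196,[6])],
  [(197,[1]), (191,[]), (197,[3]), (197,[4]), (197,[5]), (202,[]), (193,[]), (199,[])],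
  [(198,[1]), (202,[]), (198,[3]), (192,[]), (203,[]), (191,[]), (198,[6]), (200,[])],
  [(199,[1]), (194,[]), (199,[3]), (199,[4]), (199,[5]), (204,[]), (199,[0]), (197,[])],
  [(200,[1]), (204,[]), (200,[3]), (195,[]), (205,[]), (194,[]), (206,[]), (198,[])],
  [(201,[1]), (201,[4]), (196,[]), (206,[]), (201,[2]), (201,[0]), (195,[]), (201,[6])],
  [(202,[1]), (198,[]), (202,[3]), (202,[4]), (207,[]), (197,[]), (202,[6]), (204,[])],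
  [(203,[1]), (207,[]), (203,[3]), (203,[2]), (198,[]), (203,[5]), (203,[6]), (205,[])],
  [(204,[1]), (200,[]), (204,[3]), (204,[4]), (208,[]), (199,[]), (209,[]), (202,[])],
  [(205,[1]), (208,[]), (205,[3]), (205,[2]), (200,[]), (205,[5]), (210,[]), (203,[])],
  [(206,[1]), (209,[]), (206,[3]), (201,[]), (210,[]), (206,[0]), (200,[]), (206,[6])],
  [(207,[1]), (203,[]), (207,[3]), (211,[]), (202,[]), (207,[5]), (207,[6]), (208,[])],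
  [(208,[1]), (205,[]), (208,[3]), (212,[]), (204,[]), (208,[5]), (213,[]), (207,[])],
  [(209,[1]), (206,[]), (209,[3]), (209,[4]), (213,[]), (209,[0]), (204,[]), (209,[6])],
  [(210,[1]), (213,[]), (210,[3]), (210,[2]), (206,[]), (214,[]), (205,[]), (210,[6])],
  [(211,[1]), (211,[2]), (215,[]), (207,[]), (211,[4]), (211,[5]), (211,[6]), (212,[])],
  [(212,[1]), (212,[2]), (216,[]), (208,[]), (212,[4]), (212,[5]), (217,[]), (211,[])],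
  [(213,[1]), (210,[]), (213,[3]), (217,[]), (209,[]), (218,[]), (208,[]), (213,[6])],
  [(214,[1]), (218,[]), (214,[3]), (214,[2]), (214,[0]), (210,[]), (214,[5]), (214,[6])],
  [(219,[]), (215,[2]), (211,[]), (215,[3]), (215,[4]), (215,[5]), (215,[6]), (216,[])],
  [(220,[]), (216,[2]), (212,[]), (216,[3]), (216,[4]), (216,[5]), (221,[]), (215,[])],
  [(217,[1]), (217,[2]), (221,[]), (213,[]), (217,[4]), (222,[]), (212,[]), (217,[6])],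
  [(218,[1]), (214,[]), (218,[3]), (222,[]), (218,[0]), (213,[]), (218,[5]), (218,[6])],
  [(215,[]), (219,[2]), (219,[1]), (219,[3]), (219,[4]), (219,[5]), (219,[6]), (220,[])],
  [(216,[]), (220,[2]), (220,[1]), (220,[3]), (220,[4]), (220,[5]), (223,[]), (219,[])],
  [(223,[]), (221,[2]), (217,[]), (221,[3]), (221,[4]), (224,[]), (216,[]), (221,[6])],
  [(222,[1]), (222,[2]), (224,[]), (218,[]), (225,[]), (217,[]), (222,[5]), (222,[6])],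
  [(221,[]), (223,[2]), (223,[1]), (223,[3]), (223,[4]), (226,[]), (220,[]), (223,[6])],
  [(226,[]), (224,[2]), (222,[]), (224,[3]), (227,[]), (221,[]), (224,[5]), (224,[6])],
  [(225,[1]), (225,[2]), (227,[]), (225,[0]), (222,[]), (225,[4]), (225,[5]), (225,[6])],
  [(224,[]), (226,[2]), (226,[1]), (226,[3]), (228,[]), (223,[]), (226,[5]), (226,[6])],
  [(228,[]), (227,[2]), (225,[]), (229,[]), (224,[]), (227,[4]), (227,[5]), (227,[6])],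
  [(227,[]), (228,[2]), (228,[1]), (230,[]), (226,[]), (228,[4]), (228,[5]), (228,[6])],
  [(230,[]), (231,[]), (229,[0]), (227,[]), (229,[3]), (229,[4]), (229,[5]), (229,[6])],
  [(229,[]), (232,[]), (233,[]), (228,[]), (230,[3]), (230,[4]), (230,[5]), (230,[6])],
  [(232,[]), (229,[]), (231,[0]), (231,[2]), (231,[3]), (231,[4]), (231,[5]), (231,[6])],
  [(231,[]), (230,[]), (234,[]), (232,[2]), (232,[3]), (232,[4]), (232,[5]), (232,[6])],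
  [(233,[0]), (234,[]), (230,[]), (233,[1]), (233,[3]), (233,[4]), (233,[5]), (233,[6])],
  [(234,[0]), (233,[]), (232,[]), (235,[]), (234,[3]), (234,[4]), (234,[5]), (234,[6])],
  [(235,[0]), (235,[1]), (235,[2]), (234,[]), (236,[]), (235,[4]), (235,[5]), (235,[6])],
  [(236,[0]), (236,[1]), (236,[2]), (236,[3]), (235,[]), (237,[]), (236,[5]), (236,[6])],
  [(237,[0]), (237,[1]), (237,[2]), (237,[3]), (237,[4]), (236,[]), (238,[]), (237,[6])],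
  [(238,[0]), (238,[1]), (238,[2]), (238,[3]), (238,[4]), (238,[5]), (237,[]), (239,[])],
  [(239,[0]), (239,[1]), (239,[2]), (239,[3]), (239,[4]), (239,[5]), (239,[6]), (238,[])]]

/-- closure witnesses -/
def wit : List (List (List (Nat × List Nat))) := [wit0, wit1, wit2, wit3, wit4, wit5, wit6, wit7]

end Cfsg.Agent.Lib.ChevStructure.Order.DataE8
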