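import Cfsg.Agent.Lib.ChevStructure.Order.Formula
import Cfsg.Agent.Lib.ChevStructure.Order.DataE8
import Cfsg.Agent.Lib.ChevStructure.Order.DataTorus
import Cfsg.Agent.Lib.ChevStructure.CommGL

/-! The order of E8(q). -/

set_option autoImplicit false
set_option maxRecDepth 100000

namespace Cfsg.Agent.Lib.ChevStructure.Order.CertE8

open Cfsg.Lie

theorem levels : allLt Data.E8.fast.l (fun k => Data.E8.fast.levelOK k (DataE8.reps.getD k [])
    (DataE8.wit.getD k [])) = true := by decide +kernel

theorem ident : identOK Data.E8.fast.l DataE8.reps [2, 8, 12, 14, 18, 20, 24, 30] = true := by decide +kernel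

theorem smith : Data.E8.fast.smithOK DataTorus.UE8 DataTorus.U'E8 DataTorus.VE8 DataTorus.V'E8
    DataTorus.dE8 = true := by decide +kernel

theorem card_diagonal {K : Type*} [Field K] [Fintype K] {q : ℕ} (hq : Fintype.card K = q) :
    (∏ i : Fin chevE8.rank, Nat.gcd (q - 1) (DataTorus.dE8.getD i.val 0)) *
      Nat.card (chevE8.diagonalSubgroup K) = (q - 1) ^ chevE8.rank :=
  Cert.E8.certified.card_diagonal hq smith

theorem card_group {K : Type*} [Field K] [Fintype K] {q : ℕ} (hq : Fintype.card K = q) :
    (∏ i : Fin chevE8.rank, Nat.gcd (q - 1) (DataTorus.dE8.getD i.val 0)) * Nat.card (chevE8.group K) =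
      q ^ (chevE8.nroots / 2) * (([2, 8, 12, 14, 18, 20, 24, 30] : List ℕ).map fun d => q ^ d - 1).prod :=
  Cert.E8.certified.card_group (Cert.E8.core.commOK_mild mildE8) levels ident smith hq

end Cfsg.Agent.Lib.ChevStructure.Order.CertE8
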