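/-! Minimal coset representatives along the chain of parabolic subgroups of W(F4) (generated). -/

set_option autoImplicit false
set_option maxRecDepth 100000

namespace Cfsg.Agent.Lib.ChevStructure.Order.DataF4

/-- representatives, level by level -/
def reps : List (List (List Nat)) := [
  [[], [0]],
  [[], [1], [0,1]],
  [[], [2], [1,2], [0,1,2], [2,1,2], [2,0,1,2], [1,2,0,1,2], [2,1,2,0,1,2]],
  [[], [3], [2,3], [1,2,3], [0,1,2,3], [2,1,2,3], [2,0,1,2,3], [3,2,1,2,3], [1,2,0,1,2,3], [3,2,0,1,2,3], [2,1,2,0,1,2,3], [3,1,2,0,1,2,3], [3,2,1,2,0,1,2,3], [2,3,1,2,0,1,2,3], [2,3,2,1,2,0,1,2,3], [1,2,3,1,2,0,1,2,3], [1,2,3,2,1,2,0,1,2,3], [0,1,2,3,1,2,0,1,2,3], [0,1,2,3,2,1,2,0,1,2,3], [2,1,2,3,2,1,2,0,1,2,3], [2,0,1,2,3,2,1,2,0,1,2,3], [1,2,0,1,2,3,2,1,2,0,1,2,3], [2,1,2,0,1,2,3,2,1,2,0,1,2,3], [3,2,1,2,0,1,2,3,2,1,2,0,1,2,3]]]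

/-- closure witnesses of level 0 -/
def wit0 : List (List (Nat × List Nat)) := [
  [(1,[])],
  [(0,[])]]

/-- closure witnesses of level 1 -/
def wit1 : List (List (Nat × List Nat)) := [
  [(0,[0]), (1,[])],
  [(2,[]), (0,[])],
  [(1,[]), (2,[0])]]

/-- closure witnesses of level 2 -/
def wit2 : List (List (Nat × List Nat)) := [
  [(0,[0]), (0,[1]), (1,[])],
  [(1,[0]), (2,[]), (0,[])],
  [(3,[]), (1,[]), (4,[])],
  [(2,[]), (3,[0]), (5,[])],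
  [(5,[]), (4,[1]), (2,[])],
  [(4,[]), (6,[]), (3,[])],
  [(6,[1]), (5,[]), (7,[])],
  [(7,[1]), (7,[0]), (6,[])]]

/-- closure witnesses of level 3 -/
def wit3 : List (List (Nat × List Nat)) := [
  [(0,[0]), (0,[1]), (0,[2]), (1,[])],
  [(1,[0]), (1,[1]), (2,[]), (0,[])],
  [(2,[0]), (3,[]), (1,[]), (2,[2])],
  [(4,[]), (2,[]), (5,[]), (3,[2])],
  [(3,[]), (4,[0]), (6,[]), (4,[2])],
  [(6,[]), (5,[1]), (3,[]), (7,[])],
  [(5,[]), (8,[]), (4,[]), (9,[])],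
  [(9,[]), (7,[1]), (7,[2]), (5,[])],
  [(8,[1]), (6,[]), (10,[]), (11,[])],
  [(7,[]), (11,[]), (9,[2]), (6,[])],
  [(10,[1]), (10,[0]), (8,[]), (12,[])],
  [(11,[1]), (9,[]), (13,[]), (8,[])],
  [(12,[1]), (12,[0]), (14,[]), (10,[])],
  [(13,[1]), (15,[]), (11,[]), (14,[])],
  [(14,[1]), (16,[]), (12,[]), (13,[])],
  [(17,[]), (13,[]), (15,[2]), (16,[])],
  [(18,[]), (14,[]), (19,[]), (15,[])],
  [(15,[]), (17,[1]), (17,[2]), (18,[])],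
  [(16,[]), (18,[1]), (20,[]), (17,[])],
  [(20,[]), (19,[0]), (16,[]), (19,[2])],
  [(19,[]), (21,[]), (18,[]), (20,[2])],
  [(21,[0]), (20,[]), (22,[]), (21,[2])],
  [(22,[0]), (22,[1]), (21,[]), (23,[])],
  [(23,[0]), (23,[1]), (23,[2]), (22,[])]]

/-- closure witnesses -/
def wit : List (List (List (Nat × List Nat))) := [wit0, wit1, wit2, wit3]

end Cfsg.Agent.Lib.ChevStructure.Order.DataF4
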