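import Cfsg.Agent.Lib.ChevStructure.Order.Formula
import Cfsg.Agent.Lib.ChevStructure.Order.DataF4
import Cfsg.Agent.Lib.ChevStructure.Order.DataTorus
import Cfsg.Agent.Lib.ChevStructure.CommGL

/-! The order of F4(q). -/

set_option autoImplicit false
set_option maxRecDepth 100000

namespace Cfsg.Agent.Lib.ChevStructure.Order.CertF4

open Cfsg.Lie

theorem levels : allLt Data.F4.fast.l (fun k => Data.F4.fast.levelOK k (DataF4.reps.getD k [])
    (DataF4.wit.getD k [])) = true := by decide +kernel

theorem ident : identOK Data.F4.fast.l DataF4.reps [2, 6, 8, 12] = true := by decide +kernel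

theorem smith : Data.F4.fast.smithOK DataTorus.UF4 DataTorus.U'F4 DataTorus.VF4 DataTorus.V'F4
    DataTorus.dF4 = true := by decide +kernel

theorem card_diagonal {K : Type*} [Field K] [Fintype K] {q : ℕ} (hq : Fintype.card K = q) :
    (∏ i : Fin chevF4.rank, Nat.gcd (q - 1) (DataTorus.dF4.getD i.val 0)) *
      Nat.card (chevF4.diagonalSubgroup K) = (q - 1) ^ chevF4.rank :=
  Cert.F4.certified.card_diagonal hq smith

theorem card_group {K : Type*} [Field K] [Fintype K] {q : ℕ} (hq : Fintype.card K = q) :
    (∏ i : Fin chevF4.rank, Nat.gcd (q - 1) (DataTorus.dF4.getD i.val 0)) * Nat.card (chevF4.group K) =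
      q ^ (chevF4.nroots / 2) * (([2, 6, 8, 12] : List ℕ).map fun d => q ^ d - 1).prod :=
  Cert.F4.certified.card_group (Cert.F4.core.commOK_mild mildF4) levels ident smith hq

end Cfsg.Agent.Lib.ChevStructure.Order.CertF4
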