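import Cfsg.Agent.Lib.ChevStructure.Torus
import Cfsg.Agent.Lib.ChevStructure.CheckCore

/-!
The order of H: the kernel of the integer Cartan matrix acting on (Fˣ)^l, from a Smith normal form.
-/

set_option autoImplicit false
set_option linter.unusedSectionVars false

namespace Cfsg.Agent.Lib.ChevStructure

open Cfsg.Lie
open scoped MatrixGroups Matrix

/-- An integer matrix acting on a power of an abelian group. -/
def zmap {l : ℕ} (G : Type*) [CommGroup G] (M : Matrix (Fin l) (Fin l) ℤ) : (Fin l → G) →* (Fin l → G) where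
  toFun c m := ∏ j, c j ^ M m j
  map_one' := funext fun m => by simp
  map_mul' c d := funext fun m => by simp [mul_zpow, Finset.prod_mul_distrib]

theorem zmap_comp {l : ℕ} {G : Type*} [CommGroup G] (M N : Matrix (Fin l) (Fin l) ℤ) (c : Fin l → G) :
    zmap G M (zmap G N c) = zmap G (M * N) c := by
  funext m
  show ∏ j, (∏ k, c k ^ N j k) ^ M m j = ∏ k, c k ^ (M * N) m k
  simp only [← Finset.prod_zpow, ← zpow_mul]
  rw [Finset.prod_comm]
  refine Finset.prod_congr rfl fun k _ => ?_
  rw [Matrix.mul_apply]
  induction (Finset.univ : Finset (Fin l)) using Finset.induction_on with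
  | empty => simp
  | insert a t ha ih => rw [Finset.prod_insert ha, Finset.sum_insert ha, ih, zpow_add, mul_comm (M m a)]

theorem zmap_one {l : ℕ} {G : Type*} [CommGroup G] (c : Fin l → G) : zmap G 1 c = c := by
  funext m
  show ∏ j, c j ^ (1 : Matrix (Fin l) (Fin l) ℤ) m j = c m
  rw [Finset.prod_eq_single m] <;> simp +contextual [Matrix.one_apply, eq_comm]

/-- The kernel of a matrix with a Smith normal form. -/
theorem card_ker_zmap {l : ℕ} {G : Type*} [CommGroup G] [Finite G] [IsCyclic G]
    {M U U' V V' : Matrix (Fin l) (Fin l) ℤ} {d : Fin l → ℕ} (hU : U * U' = 1) (hV : V * V' = 1)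
    (h : U * M * V = Matrix.diagonal fun i => (d i : ℤ)) :
    Nat.card (zmap G M).ker = ∏ i, Nat.gcd (Nat.card G) (d i) := by
  have hU' : U' * U = 1 := mul_eq_one_comm.1 hU
  have hV' : V' * V = 1 := mul_eq_one_comm.1 hV
  have hdiag : ∀ c : Fin l → G, zmap G (Matrix.diagonal fun i => (d i : ℤ)) c = fun i => c i ^ d i := by
    intro c
    funext m
    show ∏ j, c j ^ Matrix.diagonal (fun i => (d i : ℤ)) m j = _
    rw [Finset.prod_eq_single m] <;> simp +contextual [Matrix.diagonal, eq_comm]
  have e : (zmap G M).ker ≃ ((i : Fin l) → (powMonoidHom (d i) : G →* G).ker) :=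
    { toFun := fun c i => ⟨zmap G V' c.1 i, by
        have : zmap G (Matrix.diagonal fun i => (d i : ℤ)) (zmap G V' c.1) = 1 := by
          rw [← h, zmap_comp, mul_assoc, hV, mul_one, ← zmap_comp, show zmap G M c.1 = 1 from c.2, map_one]
        rw [hdiag] at this
        exact congrFun this i⟩
      invFun := fun e => ⟨zmap G V fun i => (e i).1, by
        show zmap G M (zmap G V _) = 1
        have : zmap G U' (zmap G (U * M * V) fun i => (e i).1) = 1 := by
          rw [h, hdiag]
          have : (fun i => (e i).1 ^ d i) = (1 : Fin l → G) := funext fun i => (e i).2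
          rw [this, map_one]
        rwa [zmap_comp, ← mul_assoc, ← mul_assoc, hU', one_mul, ← zmap_comp] at this⟩
      left_inv := fun c => Subtype.ext (by
        show zmap G V (zmap G V' c.1) = c.1
        rw [zmap_comp, hV, zmap_one])
      right_inv := fun e => funext fun i => Subtype.ext (by
        show zmap G V' (zmap G V fun i => (e i).1) i = _
        rw [zmap_comp, hV', zmap_one]) }
  rw [Nat.card_congr e, Nat.card_pi]
  exact Finset.prod_congr rfl fun i _ => IsCyclic.card_powMonoidHom_ker G (d i)

/-- A matrix from a list of rows. -/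
def matL (l : ℕ) (R : List (List ℤ)) : Matrix (Fin l) (Fin l) ℤ :=
  Matrix.of fun i j => (R.getD i.val []).getD j.val 0

namespace Fast

variable (F : Fast)

/-- Product entry of two row lists. -/
def mulL (A B : List (List ℤ)) (i j : ℕ) : ℤ :=
  sumL F.l fun k => (A.getD i []).getD k 0 * (B.getD k []).getD j 0

/-- The Cartan matrix as a list. -/
def cartanL : List (List ℤ) := (List.range F.l).map fun m => (List.range F.l).map fun j => F.a j (F.p m)

/-- The check of a Smith normal form of the Cartan matrix. -/
def smithOK (U U' V V' : List (List ℤ)) (d : List ℕ) : Bool :=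
  allLt F.l fun i => allLt F.l fun j =>
    decide (F.mulL U U' i j = cond (Nat.beq i j) 1 0) && decide (F.mulL V V' i j = cond (Nat.beq i j) 1 0) &&
    decide ((sumL F.l fun k => F.mulL U F.cartanL i k * (V.getD k []).getD j 0) =
      cond (Nat.beq i j) ((d.getD i 0 : ℕ) : ℤ) 0)

end Fast

namespace Fast.Certified

variable {F : Fast} {D : ChevalleyDatum} (H : Certified F D)
include H

theorem card_diagonal {K : Type*} [Field K] [Fintype K] {q : ℕ} (hq : Fintype.card K = q)
    {U U' V V' : List (List ℤ)} {d : List ℕ} (h : F.smithOK U U' V V' d = true) :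
    (∏ i : Fin D.rank, Nat.gcd (q - 1) (d.getD i.val 0)) * Nat.card (D.diagonalSubgroup K) =
      (q - 1) ^ D.rank := by
  classical
  set C := H.core
  simp only [smithOK, allLt_iff, Bool.and_eq_true, decide_eq_true_eq] at h
  have hl := H.hl
  have hsum : ∀ f : ℕ → ℤ, sumL F.l f = ∑ k : Fin D.rank, f k.val := by
    intro f
    rw [show F.l = D.rank from hl.symm, sumL_eq, Fin.sum_univ_eq_sum_range]
  have hbeq : ∀ i j : Fin D.rank, ∀ x : ℤ, cond (Nat.beq i.val j.val) x 0 = if i = j then x else 0 := by
    intro i j x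
    by_cases e : i = j
    · subst e; simp
    · rw [if_neg e, Bool.eq_false_iff.2 fun hb => e (Fin.ext (Nat.eq_of_beq_eq_true hb))]; rfl
  have hM : ∀ m j : Fin D.rank, (F.cartanL.getD m.val []).getD j.val 0 = A D j (C.p m) := by
    intro m j
    rw [H.A_val]
    simp [cartanL, List.getD_eq_getElem?_getD, H.lt_l m, H.lt_l j]
    rfl
  have e1 : matL D.rank U * matL D.rank U' = 1 := by
    ext i j
    rw [Matrix.mul_apply, Matrix.one_apply, ← hbeq, ← ((h i (H.lt_l i)) j (H.lt_l j)).1.1, mulL, hsum]
    rfl
  have e2 : matL D.rank V * matL D.rank V' = 1 := by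
    ext i j
    rw [Matrix.mul_apply, Matrix.one_apply, ← hbeq, ← ((h i (H.lt_l i)) j (H.lt_l j)).1.2, mulL, hsum]
    rfl
  have e3 : matL D.rank U * (Matrix.of fun m j => A D j (C.p m)) * matL D.rank V =
      Matrix.diagonal fun i : Fin D.rank => ((d.getD i.val 0 : ℕ) : ℤ) := by
    ext i j
    rw [Matrix.mul_apply, Matrix.diagonal_apply, ← hbeq, ← ((h i (H.lt_l i)) j (H.lt_l j)).2, hsum]
    refine Finset.sum_congr rfl fun k _ => ?_
    rw [Matrix.mul_apply, mulL, hsum]
    simp only [matL, Matrix.of_apply, hM]
  have hker : (C.HThom K).ker = (zmap Kˣ (Matrix.of fun m j => A D j (C.p m))).ker := by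
    ext c
    rw [MonoidHom.mem_ker, MonoidHom.mem_ker]
    show C.HT K c = 1 ↔ _
    constructor
    · intro hc
      rw [Core.HT, ← C.diag_one] at hc
      funext m
      exact congrFun (C.diag_inj K hc) (C.p m)
    · intro hc
      rw [C.HT_eq_T, Core.T, ← C.diag_one]
      congr 1
      funext s
      simp only [Core.chr, Pi.one_apply]
      refine Finset.prod_eq_one fun m _ => ?_
      rw [show C.chA c (C.p m) = 1 from congrFun hc m, one_zpow]
  have hcard := Subgroup.card_mul_index (C.HThom K).ker
  rw [Subgroup.index_ker, ← C.diagonalSubgroup_eq, hker, card_ker_zmap (G := Kˣ) e1 e2 e3, Nat.card_fun,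
    Nat.card_fin] at hcard
  rwa [show Nat.card Kˣ = q - 1 from by rw [Nat.card_units, Nat.card_eq_fintype_card, hq]] at hcard

end Fast.Certified

end Cfsg.Agent.Lib.ChevStructure
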