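import Cfsg.Agent.Lib.ChevStructure.Poincare
import Cfsg.Agent.Lib.ChevStructure.Order.TorusCard

/-!
The order formula |G| = q^N ∏ (q^d - 1) / ∏ gcd from the checked coset representatives and a polynomial
identity checked on coefficient lists.
-/

set_option autoImplicit false
set_option linter.unusedSectionVars false

namespace Cfsg.Agent.Lib.ChevStructure

open Cfsg.Lie

namespace Order

/-- value of a coefficient list -/
def peval : List ℤ → ℤ → ℤ
  | [], _ => 0
  | a :: l, x => a + x * peval l x

/-- sum of coefficient lists -/
def padd : List ℤ → List ℤ → List ℤ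
  | [], m => m
  | a :: l, [] => a :: l
  | a :: l, b :: m => (a + b) :: padd l m

/-- product of coefficient lists -/
def pmul : List ℤ → List ℤ → List ℤ
  | [], _ => []
  | a :: l, m => padd (m.map (a * ·)) (0 :: pmul l m)

/-- the monomial of a degree -/
def mono : ℕ → List ℤ
  | 0 => [1]
  | k + 1 => 0 :: mono k

/-- Σ x^(length) -/
def lensPoly (R : List (List ℕ)) : List ℤ := (R.map fun L => mono L.length).foldr padd []

/-- The Boolean check of the Poincaré identity. -/
def identOK (l : ℕ) (R : List (List (List ℕ))) (degs : List ℕ) : Bool :=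
  (padd (pmul (((List.range l).map fun k => lensPoly (R.getD k [])).foldr pmul [1])
      ((List.replicate l [-1, 1]).foldr pmul [1]))
    (((degs.map fun d => padd [-1] (mono d)).foldr pmul [1]).map ((-1) * ·))).all fun c => decide (c = 0)

theorem peval_padd : ∀ l m x, peval (padd l m) x = peval l x + peval m x
  | [], m, x => by simp [padd, peval]
  | a :: l, [], x => by simp [padd, peval]
  | a :: l, b :: m, x => by simp [padd, peval, peval_padd l m x]; ring

theorem peval_map (a : ℤ) : ∀ m x, peval (m.map (a * ·)) x = a * peval m x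
  | [], x => by simp [peval]
  | b :: m, x => by simp [peval, peval_map a m x]; ring

theorem peval_pmul : ∀ l m x, peval (pmul l m) x = peval l x * peval m x
  | [], m, x => by simp [pmul, peval]
  | a :: l, m, x => by simp [pmul, peval, peval_padd, peval_map, peval_pmul l m x]; ring

theorem peval_mono : ∀ k x, peval (mono k) x = x ^ k
  | 0, x => by simp [mono, peval]
  | k + 1, x => by simp [mono, peval, peval_mono k x, pow_succ']

theorem peval_foldr_pmul : ∀ (L : List (List ℤ)) x,
    peval (L.foldr pmul [1]) x = (L.map fun l => peval l x).prod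
  | [], x => by simp [peval]
  | a :: L, x => by simp [peval_pmul, peval_foldr_pmul L x]

theorem peval_lensPoly : ∀ (R : List (List ℕ)) x, peval (lensPoly R) x = (R.map fun L => x ^ L.length).sum
  | [], x => by simp [lensPoly, peval]
  | a :: R, x => by
    have := peval_lensPoly R x
    simp only [lensPoly] at this ⊢
    simp [peval_padd, peval_mono, this]

theorem peval_zero : ∀ (L : List ℤ) x, (L.all fun c => decide (c = 0)) = true → peval L x = 0
  | [], _, _ => rfl
  | a :: L, x, h => by
    simp only [List.all_cons, Bool.and_eq_true, decide_eq_true_eq] at h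
    simp [peval, h.1, peval_zero L x h.2]

theorem ident {l : ℕ} {R : List (List (List ℕ))} {degs : List ℕ} (h : identOK l R degs = true) (x : ℤ) :
    (∏ k ∈ Finset.range l, ((R.getD k []).map fun L => x ^ L.length).sum) * (x - 1) ^ l =
      (degs.map fun d => x ^ d - 1).prod := by
  have e := peval_zero _ x h
  rw [peval_padd, peval_map, peval_pmul, peval_foldr_pmul, peval_foldr_pmul, peval_foldr_pmul, List.map_map,
    List.map_map] at e
  rw [← List.prod_toFinset _ List.nodup_range, List.toFinset_range] at e
  simp only [Function.comp_def, peval_lensPoly, List.map_replicate, List.prod_replicate, peval_padd,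
    peval_mono] at e
  simp only [peval, mul_one, mul_zero, add_zero, neg_add_eq_sub] at e
  linarith

end Order

namespace Fast.Certified

open scoped Classical in
/-- The order of the group of a certified table. -/
theorem card_group {F : Fast} {D : ChevalleyDatum} (H : Certified F D) (hc : CommOK H.core)
    {R : List (List (List ℕ))} {T : List (List (List (ℕ × List ℕ)))} {degs : List ℕ}
    {U U' V V' : List (List ℤ)} {d : List ℕ}
    (hlev : allLt F.l (fun k => F.levelOK k (R.getD k []) (T.getD k [])) = true)
    (hid : Order.identOK F.l R degs = true) (hs : F.smithOK U U' V V' d = true)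
    {K : Type*} [Field K] [Fintype K] {q : ℕ} (hq : Fintype.card K = q) :
    (∏ i : Fin D.rank, Nat.gcd (q - 1) (d.getD i.val 0)) * Nat.card (D.group K) =
      q ^ (D.nroots / 2) * (degs.map fun d => q ^ d - 1).prod := by
  have h1 := H.card_diagonal (K := K) hq hs
  rw [allLt_iff] at hlev
  have hl : F.l = D.rank := H.hl.symm
  set C := H.core
  let Rf : ℕ → List (List (Fin D.rank)) := fun k => (R.getD k []).map (toFinL D.rank)
  have hsum := C.sum_WJ Rf D.rank (fun k hk => H.level (hlev k (hl.symm ▸ hk))) q
  have hW : ∑ σ : C.WG, q ^ C.len (σ : Equiv.Perm (Rt D)) =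
      ∑ σ : C.WJ D.rank, q ^ C.len (σ : Equiv.Perm (Rt D)) := by
    refine Finset.sum_bij' (fun σ _ => ⟨σ.1, C.WJ_rank.symm ▸ σ.2⟩) (fun σ _ => ⟨σ.1, C.WJ_rank ▸ σ.2⟩)
      (by simp) (by simp) (by simp) (by simp) (by simp)
  have hlens : ∀ k ∈ Finset.range D.rank, ((Rf k).map fun L => q ^ L.length).sum =
      ((R.getD k []).map fun L => q ^ L.length).sum := by
    intro k hk
    rw [Finset.mem_range] at hk
    have hlv := hlev k (hl.symm ▸ hk)
    simp only [levelOK, Bool.and_eq_true, allLt_iff, List.all_eq_true, Nat.ble_eq, Nat.blt_eq] at hlv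
    refine congrArg List.sum ?_
    rw [List.map_map]
    refine List.map_congr_left fun L hL => ?_
    obtain ⟨a, ha, rfl⟩ := List.getElem_of_mem hL
    have hle := (hlv.1.2 a ha).1.1.1
    rw [List.getD_eq_getElem _ _ ha] at hle
    have hv := toFinL_val (n := D.rank) (L := (R.getD k [])[a]) fun i hi => by have := hle i hi; omega
    have := congrArg List.length hv
    rw [List.length_map] at this
    show q ^ _ = q ^ _; rw [this]
  rw [hc.card_group, hc.card_borel, Nat.card_eq_fintype_card (α := K), hq, hW, hsum, Finset.prod_congr rfl hlens]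
  have hq2 : 2 ≤ q := hq ▸ Fintype.one_lt_card
  have key := Order.ident hid (q : ℤ)
  rw [hl] at key
  have goalZ : (((∏ k ∈ Finset.range D.rank, ((R.getD k []).map fun L => q ^ L.length).sum) *
      (q - 1) ^ D.rank : ℕ) : ℤ) = (((degs.map fun d => q ^ d - 1).prod : ℕ) : ℤ) := by
    push_cast [Nat.cast_sub (show 1 ≤ q by omega)]
    simp only [List.map_map, Function.comp_def, Nat.cast_pow]
    rw [key]
    refine congrArg List.prod (List.map_congr_left fun a _ => ?_)
    rw [Nat.cast_sub (Nat.one_le_pow _ _ (by omega)), Nat.cast_pow, Nat.cast_one]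
  have goalN := Int.ofNat.inj goalZ
  rw [← h1] at goalN
  rw [← goalN]
  ring

end Fast.Certified

end Cfsg.Agent.Lib.ChevStructure
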